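import Groth.Agent.RedSub.H630.ChevDefs

/-!
# The output of step X3 of the existence theorem: a group functor with torus, root groups and big cell

`CellGrp P b R A`: torus, root homomorphisms (for all roots) and big cell `U⁻ × T × U⁺` (a principal open
subset `D(d)`) of an affine group functor `Pt R A`, with all relations over all rings.  No smoothness or
connectedness of the fibres of `Spec A` is assumed (that is X4).

`MatGrp S R A`: the realisation of `Pt R A` as a closed subgroup of `GL_J` containing the matrices of a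
Chevalley system `S : ChevSys P b`.
-/

set_option autoImplicit false
universe u

open Polynomial TensorProduct
open Groth.Agent.Sga3B.Cell Groth.Agent.RedSub.H630.ChevDefs

namespace Groth.Agent.Redsub.H632.X3Defs

section defs

variable {idx M : Type} [Fintype idx] [AddCommGroup M] [Module.Free ℤ M] [Module.Finite ℤ M]

/-- Torus, root homomorphisms and big cell of an affine group functor. -/
structure CellGrp (P : RootPairing idx ℤ M (Module.Dual ℤ M)) (b : P.Base)
    (R A : Type u) [CommRing R] [CommRing A] [Algebra R A] [PtGrp R A] where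
  /-- the torus -/
  i : ∀ (B : Type u) [CommRing B] [Algebra R B], TPt M B →* Pt R A B
  i_nat : ∀ {B C : Type u} [CommRing B] [Algebra R B] [CommRing C] [Algebra R C] (φ : B →ₐ[R] C)
    (t : TPt M B), Pt.map φ (i B t) = i C (TPt.map φ t)
  i_inj : ∀ (B : Type u) [CommRing B] [Algebra R B], Function.Injective (i B)
  /-- the root homomorphisms, for all roots -/
  uu : idx → ∀ (B : Type u) [CommRing B] [Algebra R B], B → Pt R A B
  uu_add : ∀ (a : idx) {B : Type u} [CommRing B] [Algebra R B] (x y : B),
    uu a B (x + y) = uu a B x * uu a B y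
  uu_nat : ∀ (a : idx) {B C : Type u} [CommRing B] [Algebra R B] [CommRing C] [Algebra R C]
    (φ : B →ₐ[R] C) (x : B), Pt.map φ (uu a B x) = uu a C (φ x)
  uu_surj : ∀ a : idx, Function.Surjective (uu a R[X] X).hom
  rel : ∀ (a : idx) {B : Type u} [CommRing B] [Algebra R B] (t : TPt M B) (x : B),
    i B t * uu a B x * (i B t)⁻¹ = uu a B (TPt.ch (P.root a) t * x)
  rank1 : ∀ a ∈ b.support, ∀ {B : Type u} [CommRing B] [Algebra R B] (x y : B) (v : Bˣ),
    (v : B) = 1 + x * y → uu a B x * uu (P.reflectionPerm a a) B y =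
      uu (P.reflectionPerm a a) B ((v⁻¹ : Bˣ) * y) * i B (TPt.cow (P.coroot a) v) *
        uu a B ((v⁻¹ : Bˣ) * x)
  comm : ∀ a ∈ b.support, ∀ c ∈ b.support, a ≠ c → ∀ {B : Type u} [CommRing B] [Algebra R B]
    (x y : B), uu a B x * uu (P.reflectionPerm c c) B y = uu (P.reflectionPerm c c) B y * uu a B x
  /-- `n_a = u_a(1) u_{-a}(-1) u_a(1)` acts on the torus by `s_a` -/
  conjT : ∀ a ∈ b.support, ∀ {B : Type u} [CommRing B] [Algebra R B] (t : TPt M B),
    (uu a B 1 * uu (P.reflectionPerm a a) B (-1) * uu a B 1) * i B t *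
      (uu a B 1 * uu (P.reflectionPerm a a) B (-1) * uu a B 1)⁻¹ = i B (sT P a t)
  conj : ∀ a ∈ b.support, ∀ c : idx, ∃ r : Rˣ, ∀ {B : Type u} [CommRing B] [Algebra R B] (x : B),
    (uu a B 1 * uu (P.reflectionPerm a a) B (-1) * uu a B 1) * uu c B x *
      (uu a B 1 * uu (P.reflectionPerm a a) B (-1) * uu a B 1)⁻¹ =
      uu (P.reflectionPerm a c) B (algebraMap R B r * x)
  /-- positive roots by nondecreasing height -/
  posL : List idx
  posL_nodup : posL.Nodup
  mem_posL : ∀ a, a ∈ posL ↔ b.IsPos a
  posL_sorted : posL.Pairwise fun a c => b.height a ≤ b.height c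
  /-- negative roots by nondecreasing `-height` -/
  negL : List idx
  negL_nodup : negL.Nodup
  mem_negL : ∀ a, a ∈ negL ↔ ¬ b.IsPos a
  negL_sorted : negL.Pairwise fun a c => b.height c ≤ b.height a
  pos_mul : ∀ {B : Type u} [CommRing B] [Algebra R B] (x y : idx → B), ∃ z : idx → B,
    (posL.map fun a => uu a B (x a)).prod * (posL.map fun a => uu a B (y a)).prod =
      (posL.map fun a => uu a B (z a)).prod ∧ ∀ a ∈ b.support, z a = x a + y a
  pos_inv : ∀ {B : Type u} [CommRing B] [Algebra R B] (x : idx → B), ∃ z : idx → B,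
    (posL.map fun a => uu a B (x a)).prod⁻¹ = (posL.map fun a => uu a B (z a)).prod
  neg_mul : ∀ {B : Type u} [CommRing B] [Algebra R B] (x y : idx → B), ∃ z : idx → B,
    (negL.map fun a => uu a B (x a)).prod * (negL.map fun a => uu a B (y a)).prod =
      (negL.map fun a => uu a B (z a)).prod ∧
      ∀ a ∈ b.support, z (P.reflectionPerm a a) = x (P.reflectionPerm a a) + y (P.reflectionPerm a a)
  neg_inv : ∀ {B : Type u} [CommRing B] [Algebra R B] (x : idx → B), ∃ z : idx → B,
    (negL.map fun a => uu a B (x a)).prod⁻¹ = (negL.map fun a => uu a B (z a)).prod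
  pos_norm : ∀ a ∈ b.support, ∀ {B : Type u} [CommRing B] [Algebra R B] (t : B) (x : idx → B),
    x a = 0 → ∃ z : idx → B, z a = 0 ∧
      uu (P.reflectionPerm a a) B t * (posL.map fun c => uu c B (x c)).prod =
        (posL.map fun c => uu c B (z c)).prod * uu (P.reflectionPerm a a) B t
  neg_norm : ∀ a ∈ b.support, ∀ {B : Type u} [CommRing B] [Algebra R B] (t : B) (x : idx → B),
    x (P.reflectionPerm a a) = 0 → ∃ z : idx → B, z (P.reflectionPerm a a) = 0 ∧
      uu a B t * (negL.map fun c => uu c B (x c)).prod =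
        (negL.map fun c => uu c B (z c)).prod * uu a B t
  /-- the big cell `U⁻ × T × U⁺ → G` is a monomorphism -/
  cell_inj : ∀ {B : Type u} [CommRing B] [Algebra R B] (x x' : idx → B) (t t' : TPt M B),
    (negL.map fun a => uu a B (x a)).prod * i B t * (posL.map fun a => uu a B (x a)).prod =
      (negL.map fun a => uu a B (x' a)).prod * i B t' * (posL.map fun a => uu a B (x' a)).prod →
      x = x' ∧ t = t'
  /-- the big cell is the principal open subset `D(d)` -/
  d : A
  mem_cell_iff : ∀ {B : Type u} [CommRing B] [Algebra R B] (g : Pt R A B),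
    (∃ (x : idx → B) (t : TPt M B), g = (negL.map fun a => uu a B (x a)).prod * i B t *
      (posL.map fun a => uu a B (x a)).prod) ↔ IsUnit (g.hom d)

/-- `Pt R A` as a closed subgroup of `GL_J`, `J` the index set of a Chevalley system. -/
structure MatGrp {P : RootPairing idx ℤ M (Module.Dual ℤ M)} {b : P.Base} (S : ChevSys.{u} P b)
    (R A : Type u) [CommRing R] [CommRing A] [Algebra R A] [PtGrp R A] extends CellGrp P b R A where
  /-- the matrix of a point -/
  mat : ∀ (B : Type u) [CommRing B] [Algebra R B], Pt R A B →* Matrix S.J S.J B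
  mat_nat : ∀ {B C : Type u} [CommRing B] [Algebra R B] [CommRing C] [Algebra R C] (φ : B →ₐ[R] C)
    (g : Pt R A B), mat C (Pt.map φ g) = (mat B g).map φ
  mat_inj : ∀ (B : Type u) [CommRing B] [Algebra R B], Function.Injective (mat B)
  /-- `Spec A → GL_J` is a closed immersion: if the matrix of a `C`-point and its inverse come from `B ⊆ C`
  then the point comes from a `B`-point. -/
  mat_lift : ∀ {B C : Type u} [CommRing B] [Algebra R B] [CommRing C] [Algebra R C] (φ : B →ₐ[R] C),
    Function.Injective φ → ∀ (g : Pt R A C) (m m' : Matrix S.J S.J B), mat C g = m.map φ →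
      mat C g⁻¹ = m'.map φ → ∃ h : Pt R A B, Pt.map φ h = g ∧ mat B h = m
  mat_i : ∀ {B : Type u} [CommRing B] [Algebra R B] (t : TPt M B), mat B (i B t) = tMat S.wt t
  mat_uu : ∀ (a : idx) {B : Type u} [CommRing B] [Algebra R B] (x : B),
    mat B (uu a B x) = uMat (S.E a) S.N x
  posL_eq : posL = S.posL
  negL_eq : negL = S.negL

end defs

end Groth.Agent.Redsub.H632.X3Defs
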