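import Groth.Agent.Sga3B.SplitBc264b
import Groth.Agent.Sga3B.BaseZ
import Groth.Prelude.Def_RedSub

/-!
# From a split reductive group over `ℤ` to a pinned reductive group over any base

`exists_pinned` : if the root datum `R` is realised by a split reductive group over `Spec ℤ`, then for every base `b` of
`R` and every scheme `S` there is a pinned reductive `S`-group whose pinned root datum is isomorphic to `(R, b)`.
-/

set_option autoImplicit false
open CategoryTheory MonoidalCategory CartesianMonoidalCategory MonObj GrpObj AlgebraicGeometry
universe u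

namespace Groth.Agent.Redsub.H632.Reduce

open Groth.Agent.Sga3B

/-- A splitting together with a base transported from an isomorphic root datum. -/
noncomputable def pinOfSplit {S : Scheme.{u}} {G : Over S} [GrpObj G] (D : Red.SplitRed G) {idx M N : Type}
    [AddCommGroup M] [Module ℤ M] [AddCommGroup N] [Module ℤ N] {R : RootPairing idx ℤ M N}
    (e : RootPairing.Equiv D.P R) (b : R.Base) : Red.Pinning G where
  toSplitRed := D
  base := BaseZ.comapBase e b

/-- The statement of `S3948` for one root datum implies that of `S3950` for that root datum. -/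
theorem exists_pinned (S : Scheme.{u}) {idx M N : Type} [AddCommGroup M] [Module ℤ M] [AddCommGroup N] [Module ℤ N]
    (R : RootPairing idx ℤ M N) (b : R.Base)
    (h : ∃ (G : Over (Spec (CommRingCat.of (ULift.{u} ℤ)))) (_ : GrpObj G), Red.IsSplitOfType R G) :
    ∃ (G : Over S) (_ : GrpObj G) (D : Red.Pinning G) (h : RootPairing.Equiv D.P R),
      ∀ a : D.idx, a ∈ D.base.support ↔ h.indexEquiv a ∈ b.support := by
  obtain ⟨G₀, hG₀, D₀, ⟨e⟩⟩ := h
  let f := Limits.IsTerminal.from specULiftZIsTerminal S
  exact ⟨Red.bc f G₀, inferInstance, pinOfSplit (SplitBc264.splitBc f D₀) e b, e, fun a =>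
    BaseZ.mem_comapBase_support e b a⟩

end Groth.Agent.Redsub.H632.Reduce
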