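import Mathlib.LinearAlgebra.Matrix.Block
import Mathlib.Data.Fin.Tuple.Sort
import Mathlib.Algebra.Ring.Subring.Basic
import Mathlib.Data.Fintype.EquivFin

/-!
# Triangular decompositions of matrices: leading minors and uniqueness

`G = L * diagonal δ * U` with `L` lower unitriangular and `U` upper unitriangular (indices in `Fin n`).
-/

set_option autoImplicit false
universe u

namespace Groth.Agent.Redsub.H632.X3LDU

variable {n : ℕ} {B : Type u} [CommRing B]

/-- the leading principal minor with indices `≤ m`, as the determinant of an `n × n` matrix -/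
noncomputable def minor (m : Fin n) (G : Matrix (Fin n) (Fin n) B) : B :=
  (Matrix.of fun j k => if j ≤ m ∧ k ≤ m then G j k else if j = k then 1 else 0 :
    Matrix (Fin n) (Fin n) B).det

/-- the truncation of a matrix -/
noncomputable def trunc (m : Fin n) (G : Matrix (Fin n) (Fin n) B) : Matrix (Fin n) (Fin n) B :=
  Matrix.of fun j k => if j ≤ m ∧ k ≤ m then G j k else if j = k then 1 else 0

lemma minor_eq (m : Fin n) (G : Matrix (Fin n) (Fin n) B) : minor m G = (trunc m G).det := rfl

lemma map_minor {C F : Type*} [CommRing C] [FunLike F B C] [RingHomClass F B C] (φ : F) (m : Fin n)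
    (G : Matrix (Fin n) (Fin n) B) :
    φ (minor m G) = minor m (G.map φ) := by
  rw [minor_eq, minor_eq]
  have h := RingHom.map_det (φ : B →+* C) (trunc m G)
  refine h.trans ?_
  congr 1
  ext j k
  simp only [trunc, RingHom.mapMatrix_apply, Matrix.map_apply, Matrix.of_apply]
  split_ifs <;> simp

/-- lower unitriangular -/
def IsLow (L : Matrix (Fin n) (Fin n) B) : Prop := (∀ j k, j < k → L j k = 0) ∧ ∀ j, L j j = 1

/-- upper unitriangular -/
def IsUp (U : Matrix (Fin n) (Fin n) B) : Prop := (∀ j k, k < j → U j k = 0) ∧ ∀ j, U j j = 1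

lemma det_low {L : Matrix (Fin n) (Fin n) B} (h : ∀ j k, j < k → L j k = 0) : L.det = ∏ i, L i i :=
  Matrix.det_of_isLowerTriangular _ fun i j hij => h i j hij

lemma det_up {L : Matrix (Fin n) (Fin n) B} (h : ∀ j k, k < j → L j k = 0) : L.det = ∏ i, L i i :=
  Matrix.det_of_isUpperTriangular fun i j hij => h i j hij

lemma trunc_mul {L U : Matrix (Fin n) (Fin n) B} (δ : Fin n → B) (hL : IsLow L) (hU : IsUp U) (m : Fin n) :
    trunc m (L * Matrix.diagonal δ * U) =
      trunc m L * Matrix.diagonal (fun j => if j ≤ m then δ j else 1) * trunc m U := by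
  ext j k
  rw [Matrix.mul_apply]
  simp only [Matrix.mul_diagonal]
  by_cases hjk : j ≤ m ∧ k ≤ m
  · simp only [trunc, Matrix.of_apply, hjk, and_self, if_true]
    rw [Matrix.mul_apply]
    simp only [Matrix.mul_diagonal]
    refine Finset.sum_congr rfl fun l _ => ?_
    by_cases hl : l ≤ m
    · simp [hl, hjk.1, hjk.2]
    · have h1 : L j l = 0 := hL.1 j l (lt_of_le_of_lt hjk.1 (not_le.mp hl))
      have h2 : j ≠ l := by rintro rfl; exact hl hjk.1
      simp [hl, h1, h2]
  · have e1 : trunc m (L * Matrix.diagonal δ * U) j k = if j = k then 1 else 0 := by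
      simp [trunc, hjk]
    rw [e1]
    by_cases hj : j ≤ m
    · have hk : ¬ k ≤ m := fun h => hjk ⟨hj, h⟩
      have hne : j ≠ k := by rintro rfl; exact hk hj
      rw [if_neg hne]
      symm
      apply Finset.sum_eq_zero
      intro l _
      by_cases hl : l ≤ m
      · have : l ≠ k := by rintro rfl; exact hk hl
        simp [trunc, hk, this]
      · have : j ≠ l := by rintro rfl; exact hl hj
        simp [trunc, hl, this]
    · rw [Finset.sum_eq_single j]
      · simp [trunc, hj]
      · intro l _ hl
        simp [trunc, hj, Ne.symm hl]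
      · simp

theorem minor_mul {L U : Matrix (Fin n) (Fin n) B} (δ : Fin n → B) (hL : IsLow L) (hU : IsUp U) (m : Fin n) :
    minor m (L * Matrix.diagonal δ * U) = ∏ j, if j ≤ m then δ j else 1 := by
  rw [minor_eq, trunc_mul δ hL hU, Matrix.det_mul, Matrix.det_mul, Matrix.det_diagonal]
  have h1 : (trunc m L).det = 1 := by
    rw [det_low]
    · refine Finset.prod_eq_one fun i _ => ?_
      simp [trunc, hL.2 i]
    · intro j k hjk
      simp only [trunc, Matrix.of_apply]
      split_ifs with h h'
      · exact hL.1 j k hjk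
      · exact absurd h' hjk.ne
      · rfl
  have h2 : (trunc m U).det = 1 := by
    rw [det_up]
    · refine Finset.prod_eq_one fun i _ => ?_
      simp [trunc, hU.2 i]
    · intro j k hjk
      simp only [trunc, Matrix.of_apply]
      split_ifs with h h'
      · exact hU.1 j k hjk
      · exact absurd h' hjk.ne'
      · rfl
  rw [h1, h2, one_mul, mul_one]

/-- If all leading minors of `L δ U` are units then so are the `δ j`. -/
theorem isUnit_of_isUnit_minor {L U : Matrix (Fin n) (Fin n) B} (δ : Fin n → B) (hL : IsLow L) (hU : IsUp U)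
    (j : Fin n) (h : IsUnit (minor j (L * Matrix.diagonal δ * U))) : IsUnit (δ j) := by
  rw [minor_mul δ hL hU] at h
  refine isUnit_of_dvd_unit ?_ h
  have := Finset.dvd_prod_of_mem (fun i => if i ≤ j then δ i else 1) (Finset.mem_univ j)
  simpa using this

/-- The factors of a triangular decomposition have coefficients in any subring containing the coefficients of the
product and the inverses of the diagonal entries. -/
theorem mem_of_mul_mem {L U : Matrix (Fin n) (Fin n) B} (δ : Fin n → B) (hL : IsLow L) (hU : IsUp U)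
    (T : Subring B) (hG : ∀ j k, (L * Matrix.diagonal δ * U) j k ∈ T) (hδ : ∀ j, ∃ e ∈ T, δ j * e = 1) (p : Fin n) :
    δ p ∈ T ∧ ∀ j, L j p ∈ T ∧ U p j ∈ T := by
  induction p using WellFoundedLT.induction with
  | ind p ih =>
  have hsum : ∀ j k, (L * Matrix.diagonal δ * U) j k = ∑ q, L j q * δ q * U q k := by
    intro j k
    rw [Matrix.mul_apply]
    simp only [Matrix.mul_diagonal]
  have hmem : ∀ j k, (∀ q, p < q → L j q * δ q * U q k = 0) → L j p * δ p * U p k ∈ T := by
    intro j k h
    have h1 := hG j k
    rw [hsum, ← Finset.add_sum_erase _ _ (Finset.mem_univ p)] at h1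
    have h2 : ∑ q ∈ Finset.univ.erase p, L j q * δ q * U q k ∈ T := by
      refine T.sum_mem fun q hq => ?_
      rcases lt_or_gt_of_ne (Finset.ne_of_mem_erase hq) with h3 | h3
      · exact T.mul_mem (T.mul_mem ((ih q h3).2 j).1 (ih q h3).1) ((ih q h3).2 k).2
      · rw [h q h3]; exact T.zero_mem
    have h3 := T.sub_mem h1 h2
    rwa [add_sub_cancel_right] at h3
  have hp : δ p ∈ T := by
    have := hmem p p fun q hq => by rw [hU.1 q p hq, mul_zero]
    rwa [hL.2, hU.2, one_mul, mul_one] at this
  obtain ⟨e, he, hδe⟩ := hδ p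
  refine ⟨hp, fun j => ⟨?_, ?_⟩⟩
  · have := hmem j p fun q hq => by rw [hU.1 q p hq, mul_zero]
    rw [hU.2, mul_one] at this
    have h2 := T.mul_mem this he
    rwa [mul_assoc, hδe, mul_one] at h2
  · have := hmem p j fun q hq => by rw [hL.1 p q hq, zero_mul, zero_mul]
    rw [hL.2, one_mul] at this
    have h2 := T.mul_mem he this
    rwa [← mul_assoc, mul_comm e, hδe, one_mul] at h2

/-- a numbering of a finite type compatible with a function to the integers -/
theorem exists_equiv_fin {J : Type} [Fintype J] (v : J → ℤ) : ∃ e : J ≃ Fin (Fintype.card J),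
    ∀ j k, v j < v k → e j < e k := by
  let e₀ := Fintype.equivFin J
  let f : Fin (Fintype.card J) → ℤ := fun i => v (e₀.symm i)
  refine ⟨e₀.trans (Tuple.sort f).symm, fun j k h => ?_⟩
  by_contra hlt
  rw [not_lt] at hlt
  have := Tuple.monotone_sort f hlt
  simp only [Function.comp_apply, Equiv.trans_apply, Equiv.apply_symm_apply, f, Equiv.symm_apply_apply] at this
  omega

end Groth.Agent.Redsub.H632.X3LDU
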