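import Groth.Agent.Redsub.H632.X3Mat
import Groth.Agent.Redsub.H632.X3LDU
import Groth.Agent.Sga3B.PinComb829

/-!
# Recovering the coordinates of a point of the cell from the entries of its matrix
-/

set_option autoImplicit false
universe u

open Groth.Agent.Sga3B.Cell Groth.Agent.RedSub.H630.ChevDefs Groth.Agent.Redsub.H632.X3Defs
  Groth.Agent.Redsub.H632.X3Mat

namespace Groth.Agent.Redsub.H632.X3Coord

variable {idx M : Type} [AddCommGroup M]
  {P : RootPairing idx ℤ M (Module.Dual ℤ M)} {b : P.Base} (S : ChevSys.{u} P b)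
  {B : Type u} [CommRing B]

/-- weights of a matrix -/
def Supp (W : Set M) (X : Matrix S.J S.J B) : Prop := ∀ j k, X j k ≠ 0 → S.wt j - S.wt k ∈ W

/-- the part of weight zero is the identity -/
def Unip (X : Matrix S.J S.J B) : Prop := ∀ j k, S.wt j = S.wt k → X j k = (1 : Matrix S.J S.J B) j k

variable {S} in
lemma Supp.mono {W W' : Set M} {X : Matrix S.J S.J B} (h : Supp S W X) (hW : W ⊆ W') : Supp S W' X :=
  fun j k hjk => hW (h j k hjk)

variable {S} in
lemma Supp.mul {W W' W'' : Set M} {X Y : Matrix S.J S.J B} (h : Supp S W X) (h' : Supp S W' Y)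
    (hW : ∀ w ∈ W, ∀ w' ∈ W', w + w' ∈ W'') : Supp S W'' (X * Y) := by
  intro j k hjk
  rw [Matrix.mul_apply] at hjk
  obtain ⟨l, -, hl⟩ := Finset.exists_ne_zero_of_sum_ne_zero hjk
  have h1 : X j l ≠ 0 := left_ne_zero_of_mul hl
  have h2 : Y l k ≠ 0 := right_ne_zero_of_mul hl
  have := hW _ (h j l h1) _ (h' l k h2)
  rwa [sub_add_sub_cancel] at this

lemma supp_one : Supp S {0} (1 : Matrix S.J S.J B) := by
  intro j k hjk
  have : j = k := by
    by_contra h
    exact hjk (Matrix.one_apply_ne h)
  simp [this]

lemma supp_um (a : idx) (x : B) : Supp S {m | ∃ n : ℕ, m = n • P.root a} (um S a x) := by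
  intro j k hjk
  rw [um_apply] at hjk
  obtain ⟨n, -, hn⟩ := Finset.exists_ne_zero_of_sum_ne_zero hjk
  have h1 : S.E a n j k ≠ 0 := by
    intro h; rw [h] at hn; simp at hn
  exact ⟨n, by rw [S.E_wt a n j k h1]; abel⟩

/-- the weight functional of a root -/
noncomputable def wf (a : idx) (j k : S.J) : ℤ := S.phi a (Matrix.single j k 1)

lemma phi_eq (a : idx) (X : Matrix S.J S.J ℤ) : S.phi a X = ∑ j, ∑ k, wf S a j k * X j k := by
  conv_lhs => rw [Matrix.matrix_eq_sum_single X]
  rw [map_sum]
  refine Finset.sum_congr rfl fun j _ => ?_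
  rw [map_sum]
  refine Finset.sum_congr rfl fun k _ => ?_
  have : Matrix.single j k (X j k) = X j k • Matrix.single j k (1 : ℤ) := by
    rw [Matrix.smul_single, smul_eq_mul, mul_one]
  rw [this, map_smul, smul_eq_mul, mul_comm, wf]

lemma wt_of_wf_ne_zero {a : idx} {j k : S.J} (h : wf S a j k ≠ 0) : S.wt j = S.wt k + P.root a := by
  by_contra hne
  apply h
  refine S.phi_wt a (S.wt j - S.wt k) ?_ _ ?_
  · intro h1
    apply hne
    rw [← h1]; abel
  · intro j' k' hjk
    have : j = j' ∧ k = k' := by
      by_contra h2
      apply hjk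
      rw [Matrix.single_apply_of_ne]
      exact h2
    rw [← this.1, ← this.2]; abel

/-- the functional over `B` -/
noncomputable def phiB (a : idx) (X : Matrix S.J S.J B) : B := ∑ j, ∑ k, (wf S a j k : B) * X j k

lemma phiB_map (a : idx) (X : Matrix S.J S.J ℤ) : phiB S a (X.map (Int.cast : ℤ → B)) = (S.phi a X : B) := by
  rw [phi_eq, phiB]
  push_cast
  rfl

lemma phiB_mem {T : Subring B} (a : idx) {X : Matrix S.J S.J B} (h : ∀ j k, X j k ∈ T) : phiB S a X ∈ T := by
  refine T.sum_mem fun j _ => T.sum_mem fun k _ => T.mul_mem ?_ (h j k)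
  exact intCast_mem T _

variable [Module.Free ℤ M]

lemma phi_E_ne (a : idx) {n : ℕ} (hn : n ≠ 1) : S.phi a (S.E a n) = 0 := by
  refine S.phi_wt a (n • P.root a) ?_ _ (S.E_wt a n)
  intro h
  have h0 : P.root a ≠ 0 := P.ne_zero a
  have h1 : ((n : ℤ) - 1) • P.root a = 0 := by
    rw [sub_smul, one_smul, natCast_zsmul, h, sub_self]
  rcases smul_eq_zero.mp h1 with h2 | h2
  · omega
  · exact h0 h2

lemma phiB_um (a : idx) (x : B) : phiB S a (um S a x) = x := by
  have h1 : phiB S a (um S a x) = ∑ n ∈ Finset.range S.N, x ^ n * ((S.phi a (S.E a n) : ℤ) : B) := by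
    rw [phiB]
    simp_rw [um_apply, Finset.mul_sum]
    simp_rw [Finset.sum_comm (t := Finset.range S.N)]
    refine Finset.sum_congr rfl fun n _ => ?_
    rw [phi_eq]
    push_cast
    rw [Finset.mul_sum]
    refine Finset.sum_congr rfl fun j _ => ?_
    rw [Finset.mul_sum]
    refine Finset.sum_congr rfl fun k _ => ?_
    ring
  rw [h1]
  by_cases hN : 1 < S.N
  · rw [Finset.sum_eq_single 1]
    · rw [S.phi_E, pow_one, Int.cast_one, mul_one]
    · intro n _ hn
      rw [phi_E_ne S a hn, Int.cast_zero, mul_zero]
    · intro h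
      exact absurd (Finset.mem_range.mpr hN) h
  · exfalso
    have h2 := S.phi_E a
    rw [S.E_van a 1 (by omega), map_zero] at h2
    exact zero_ne_one h2

section levels

variable (l : M →+ ℤ)

/-- allowed weights of a product of root elements of level `≥ h` -/
def WW (L : List idx) (h : ℤ) : Set M := {m | m = 0 ∨ (∃ c ∈ L, m = P.root c) ∨ h < l m}

lemma supp_pm (L : List idx) (h : ℤ) (hh : 0 < h) (hL : ∀ c ∈ L, h ≤ l (P.root c)) (x : idx → B) :
    Supp S (WW (P := P) l L h) (pm S L x) := by
  induction L with
  | nil =>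
    refine Supp.mono (W := {0}) ?_ ?_
    · exact supp_one S
    · rintro m hm
      exact Or.inl hm
  | cons a L ih =>
    have h1 : pm S (a :: L) x = um S a (x a) * pm S L x := by simp [pm]
    rw [h1]
    refine Supp.mul (supp_um S a (x a)) (ih fun c hc => hL c (by simp [hc])) ?_
    rintro w ⟨n, rfl⟩ w' hw'
    have ha := hL a (by simp)
    have hl : l (n • P.root a) = n * l (P.root a) := by rw [map_nsmul, nsmul_eq_mul]
    have hw0 : 0 ≤ l w' := by
      rcases hw' with rfl | ⟨c, hc, rfl⟩ | hw'
      · simp
      · have := hL c (by simp [hc]); omega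
      · omega
    rcases n with _ | _ | n
    · rw [zero_smul, zero_add]
      rcases hw' with rfl | ⟨c, hc, rfl⟩ | hw'
      · exact Or.inl rfl
      · exact Or.inr (Or.inl ⟨c, by simp [hc], rfl⟩)
      · exact Or.inr (Or.inr hw')
    · rw [zero_add, one_smul]
      rcases hw' with rfl | ⟨c, hc, rfl⟩ | hw'
      · exact Or.inr (Or.inl ⟨a, by simp, by simp⟩)
      · have := hL c (by simp [hc])
        exact Or.inr (Or.inr (by rw [map_add]; omega))
      · exact Or.inr (Or.inr (by rw [map_add]; omega))
    · refine Or.inr (Or.inr ?_)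
      rw [map_add, hl]
      push_cast
      nlinarith

lemma unip_pm (L : List idx) (hL : ∀ c ∈ L, 0 < l (P.root c)) (x : idx → B) : Unip S (pm S L x) := by
  induction L with
  | nil => intro j k _; simp [pm]
  | cons a L ih =>
    have h1 : pm S (a :: L) x = um S a (x a) * pm S L x := by simp [pm]
    rw [h1]
    have ih' := ih fun c hc => hL c (by simp [hc])
    intro j k hjk
    rw [Matrix.mul_apply]
    have ha := hL a (by simp)
    -- the nonzero terms have `wt l = wt k`
    have h2 : ∀ i, um S a (x a) j i * pm S L x i k = um S a (x a) j i * (1 : Matrix S.J S.J B) i k := by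
      intro i
      by_cases hu : um S a (x a) j i = 0
      · rw [hu, zero_mul, zero_mul]
      obtain ⟨n, hn⟩ := supp_um S a (x a) j i hu
      rcases Nat.eq_zero_or_pos n with h0 | h0
      · subst h0
        rw [zero_smul, sub_eq_zero] at hn
        rw [ih' i k (hn.symm.trans hjk)]
      · by_cases hp : pm S L x i k = 0
        · have hik : i ≠ k := by
            rintro rfl
            rw [hjk, sub_self] at hn
            have := congrArg l hn
            rw [map_zero, map_nsmul, nsmul_eq_mul] at this
            have : 0 < (n : ℤ) * l (P.root a) := mul_pos (by exact_mod_cast h0) ha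
            omega
          rw [hp, Matrix.one_apply_ne hik]
        · exfalso
          have h3 := supp_pm S l L 1 one_pos (fun c hc => hL c (by simp [hc])) x i k hp
          have h4 : 0 ≤ l (S.wt i - S.wt k) := by
            rcases h3 with h3 | ⟨c, hc, h3⟩ | h3
            · rw [h3, map_zero]
            · rw [h3]; exact (hL c (by simp [hc])).le
            · omega
          have h5 : l (S.wt j - S.wt i) = n * l (P.root a) := by rw [hn, map_nsmul, nsmul_eq_mul]
          have h6 : 0 < (n : ℤ) * l (P.root a) := mul_pos (by exact_mod_cast h0) ha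
          rw [map_sub] at h4 h5
          rw [hjk] at h5
          omega
    simp_rw [h2]
    rw [← Matrix.mul_apply, mul_one]
    -- now `um` itself
    by_cases hjk' : j = k
    · subst hjk'
      rw [Matrix.one_apply_eq, um_apply]
      rcases Nat.eq_zero_or_pos S.N with h0 | h0
      · exact ((isEmpty_of_N S a h0).false j).elim
      rw [Finset.sum_eq_single 0]
      · rw [pow_zero, one_mul, S.E_zero]; simp
      · intro n _ hn
        have : S.E a n j j = 0 := by
          by_contra h7
          have h8 := congrArg l (S.E_wt a n j j h7)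
          rw [map_add, map_nsmul, nsmul_eq_mul] at h8
          have : 0 < (n : ℤ) * l (P.root a) := mul_pos (by exact_mod_cast Nat.pos_of_ne_zero hn) ha
          omega
        rw [this]; simp
      · intro h; exact absurd (Finset.mem_range.mpr h0) h
    · rw [Matrix.one_apply_ne hjk']
      by_contra h7
      obtain ⟨n, hn⟩ := supp_um S a (x a) j k h7
      have h9 : n = 0 := by
        by_contra h8
        rw [hjk, sub_self] at hn
        have := congrArg l hn
        rw [map_zero, map_nsmul, nsmul_eq_mul] at this
        have : 0 < (n : ℤ) * l (P.root a) := mul_pos (by exact_mod_cast Nat.pos_of_ne_zero h8) ha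
        omega
      -- entries of `um` with equal weights
      rw [um_apply] at h7
      obtain ⟨n', -, hn'⟩ := Finset.exists_ne_zero_of_sum_ne_zero h7
      have h10 : S.E a n' j k ≠ 0 := by intro h; rw [h] at hn'; simp at hn'
      have h11 := congrArg l (S.E_wt a n' j k h10)
      rw [map_add, map_nsmul, nsmul_eq_mul, hjk] at h11
      have h12 : n' = 0 := by
        by_contra h8
        have : 0 < (n' : ℤ) * l (P.root a) := mul_pos (by exact_mod_cast Nat.pos_of_ne_zero h8) ha
        omega
      rw [h12, S.E_zero, Matrix.one_apply_ne hjk'] at h10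
      exact h10 rfl

/-- the coordinate at the first root of a sorted list -/
lemma phiB_um_mul_pm (a : idx) (L : List idx) (haL : a ∉ L) (ha : 0 < l (P.root a))
    (hL : ∀ c ∈ L, l (P.root a) ≤ l (P.root c)) (y : B) (x : idx → B) :
    phiB S a (um S a y * pm S L x) = y := by
  have hu := unip_pm S l L (fun c hc => ha.trans_le (hL c hc)) x
  have hs := supp_pm S l L _ ha hL x
  have key : ∀ j k, (wf S a j k : B) * (um S a y * pm S L x) j k = (wf S a j k : B) * (um S a y) j k := by
    intro j k
    by_cases hw : wf S a j k = 0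
    · rw [hw]; simp
    have hwt := wt_of_wf_ne_zero S hw
    congr 1
    rw [Matrix.mul_apply]
    have h2 : ∀ i, um S a y j i * pm S L x i k = um S a y j i * (1 : Matrix S.J S.J B) i k := by
      intro i
      by_cases h0 : um S a y j i = 0
      · rw [h0, zero_mul, zero_mul]
      obtain ⟨n, hn⟩ := supp_um S a y j i h0
      have h5 : l (S.wt j) - l (S.wt i) = n * l (P.root a) := by
        rw [← map_sub, hn, map_nsmul, nsmul_eq_mul]
      have h6 : l (S.wt j) = l (S.wt k) + l (P.root a) := by rw [hwt, map_add]
      by_cases hp : pm S L x i k = 0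
      · by_cases hik : i = k
        · subst hik
          rw [hu i i rfl]
        · rw [hp, Matrix.one_apply_ne hik]
      have h3 := hs i k hp
      rcases n with _ | _ | n
      · exfalso
        rw [zero_smul, sub_eq_zero] at hn
        rw [← hn, hwt, add_sub_cancel_left] at h3
        rcases h3 with h3 | ⟨c, hc, h3⟩ | h3
        · exact P.ne_zero a h3
        · exact haL (P.root.injective h3 ▸ hc)
        · exact lt_irrefl _ h3
      · have : S.wt i = S.wt k := by
          rw [zero_add, one_smul, hwt] at hn
          have h7 : S.wt k - S.wt i = 0 := by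
            have := congrArg (fun z => z - P.root a) hn
            simp only [sub_self] at this
            rw [← this]; abel
          exact (sub_eq_zero.mp h7).symm
        rw [hu i k this]
      · exfalso
        have h4 : 0 ≤ l (S.wt i - S.wt k) := by
          rcases h3 with h3 | ⟨c, hc, h3⟩ | h3
          · rw [h3, map_zero]
          · rw [h3]; exact ha.le.trans (hL c hc)
          · omega
        rw [map_sub] at h4
        push_cast at h5
        nlinarith
    simp_rw [h2]
    rw [← Matrix.mul_apply, mul_one]
  rw [phiB]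
  simp_rw [key]
  exact phiB_um S a y

/-- The coordinates lie in every subring containing the entries. -/
theorem mem_of_pm_mem (T : Subring B) (L : List idx) (hL : L.Nodup) (hpos : ∀ c ∈ L, 0 < l (P.root c))
    (hsort : L.Pairwise fun a c => l (P.root a) ≤ l (P.root c)) (x : idx → B)
    (h : ∀ j k, pm S L x j k ∈ T) : ∀ c ∈ L, x c ∈ T := by
  induction L with
  | nil => simp
  | cons a L ih =>
    have h1 : pm S (a :: L) x = um S a (x a) * pm S L x := by simp [pm]
    rw [List.nodup_cons] at hL
    rw [List.pairwise_cons] at hsort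
    have ha : x a ∈ T := by
      have := phiB_um_mul_pm S l a L hL.1 (hpos a (by simp)) hsort.1 (x a) x
      rw [← this, ← h1]
      exact phiB_mem S a h
    have h2 : ∀ j k, um S a (-x a) j k ∈ T := by
      intro j k
      rw [um_apply]
      refine T.sum_mem fun n _ => T.mul_mem (T.pow_mem (T.neg_mem ha) n) (intCast_mem T _)
    have h3 : pm S L x = um S a (-x a) * pm S (a :: L) x := by
      rw [h1, ← mul_assoc, um_neg_mul, one_mul]
    intro c hc
    rcases List.mem_cons.mp hc with rfl | hc
    · exact ha
    · refine ih hL.2 (fun c hc => hpos c (by simp [hc])) hsort.2 ?_ c hc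
      intro j k
      rw [h3, Matrix.mul_apply]
      exact T.sum_mem fun i _ => T.mul_mem (h2 j i) (h i k)

end levels

end Groth.Agent.Redsub.H632.X3Coord
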