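import Groth.Agent.Redsub.H632.X3Mk
import Groth.Agent.Sga3A.UliftZ
import Groth.Agent.Sga3B.DiagSmooth
import Groth.Agent.RedSub.H549.ToPin
import Mathlib.Algebra.Group.UniqueProds.VectorSpace
import Mathlib.Algebra.MonoidAlgebra.NoZeroDivisors
import Mathlib.RingTheory.Flat.TorsionFree
import Mathlib.RingTheory.Smooth.Basic

/-!
# The affine group scheme over `ℤ` attached to a Chevalley system
-/

set_option autoImplicit false
universe u

open Groth.Agent.Sga3B.Cell Groth.Agent.RedSub.H630.ChevDefs Groth.Agent.Redsub.H632.X3Defs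
  Groth.Agent.Redsub.H632.X3Mat Groth.Agent.Redsub.H632.X3Ring Groth.Agent.Redsub.H632.X3Grp
  Groth.Agent.Redsub.H632.X3Coord Groth.Agent.Redsub.H632.X3Pt Groth.Agent.Redsub.H632.X3Mk
open Groth.Agent.RedSub.H630.CellLift Groth.Agent.RedSub.H630.BlockLU

namespace Groth.Agent.Redsub.H632.X3Final

section general

variable {R A D : Type u} [CommRing R] [CommRing A] [CommRing D] [Algebra R A] [Algebra R D]

lemma isDomain_of_inj (ι : A →ₐ[R] D) (h : Function.Injective ι) [IsDomain D] : IsDomain A :=
  Function.Injective.isDomain (ι : A →+* D) h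

lemma flat_of_inj (ι : A →ₐ[R] D) (h : Function.Injective ι) [IsDomain D] [IsDomain R]
    [IsPrincipalIdealRing R] (hRD : Function.Injective (algebraMap R D)) : Module.Flat R A := by
  rw [Module.Flat.flat_iff_torsion_eq_bot_of_isBezout, eq_bot_iff]
  rintro a ⟨⟨r, hr⟩, hra⟩
  have hra' : r • a = 0 := hra
  rw [Submodule.mem_bot]
  apply h
  rw [map_zero]
  have h2 : algebraMap R D r * ι a = 0 := by
    rw [← Algebra.smul_def, ← map_smul, hra', map_zero]
  have h3 : algebraMap R D r ≠ 0 := by
    intro h4
    rw [← map_zero (algebraMap R D)] at h4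
    exact nonZeroDivisors.ne_zero hr (hRD h4)
  exact (mul_eq_zero.mp h2).resolve_left h3

lemma fp_of_gen [IsNoetherianRing R] {ι : Type*} [Finite ι] (f : ι → A)
    (h : Algebra.adjoin R (Set.range f) = ⊤) : Algebra.FinitePresentation R A := by
  have h1 : Algebra.FiniteType R A := by
    refine ⟨?_⟩
    rw [Subalgebra.fg_def]
    exact ⟨Set.range f, Set.finite_range f, h⟩
  exact Algebra.FinitePresentation.of_finiteType.mp h1

end general

section CRprops

variable (R : Type u) [CommRing R] (idx M : Type) [AddCommGroup M]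

lemma isDomain_groupAlg [Module.Free ℤ M] [IsDomain R] : IsDomain (MonoidAlgebra R (Multiplicative M)) := by
  have : TwoUniqueSums M := TwoUniqueSums.of_injective_addHom
    (Module.Free.chooseBasis ℤ M).repr.toLinearMap.toAddMonoidHom.toAddHom
    (Module.Free.chooseBasis ℤ M).repr.injective inferInstance
  infer_instance

lemma isDomain_CR [Module.Free ℤ M] [IsDomain R] : IsDomain (CR R idx M) := by
  have := isDomain_groupAlg R M
  infer_instance

lemma algebraMap_CR_injective : Function.Injective (algebraMap R (CR R idx M)) := by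
  have h : ∀ r : R, ev (R := R) (fun _ : idx => (0 : R)) (1 : TPt M R) (algebraMap R (CR R idx M) r) = r :=
    fun r => by rw [AlgHom.commutes]; rfl
  exact Function.LeftInverse.injective h

lemma smooth_mvPoly (D : Type u) [CommRing D] [Finite idx] : Algebra.Smooth D (MvPolynomial idx D) := {}

lemma smooth_CR [Module.Free ℤ M] [IsNoetherianRing R] [Module.Finite ℤ M] [Finite idx] :
    Algebra.Smooth R (CR R idx M) := by
  have := smooth_mvPoly idx (MonoidAlgebra R (Multiplicative M))
  exact Algebra.Smooth.comp R (MonoidAlgebra R (Multiplicative M)) (CR R idx M)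

variable {R idx M}

lemma surj_of {B : Type u} [CommRing B] [Algebra R B] (F : B →ₐ[R] CR R idx M) (x' : idx → B) (t' : TPt M B)
    (hx : ∀ a, F (x' a) = xU R idx M a) (ht : TPt.map F t' = tU R idx M) : Function.Surjective F := by
  have h1 : F.comp (ev x' t') = AlgHom.id R _ := by
    rw [comp_ev, ht]
    apply algHom_ext
    · intro a
      rw [ev_X]
      exact hx a
    · intro m
      rw [ch_tU, ev_C_single]
      rfl
  intro z
  exact ⟨ev x' t' z, DFunLike.congr_fun h1 z⟩

end CRprops

variable {idx M : Type} [Fintype idx] [AddCommGroup M] [Module.Free ℤ M] [Module.Finite ℤ M]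
  {P : RootPairing idx ℤ M (Module.Dual ℤ M)} [P.IsReduced] {b : P.Base} {S : ChevSys.{u} P b}
  {R A : Type u} [CommRing R] [CommRing A] [Algebra R A] (c : Clo S R A)

/-- auxiliary: the universal property of the localisation, with a general target -/
lemma exists_iso_aux {D : Type u} [CommRing D] [Algebra R D] (ι : A →ₐ[R] D) (d : A) (hd : IsUnit (ι d))
    (A' : Type u) [CommRing A'] [Algebra A A'] [Algebra R A'] [IsScalarTower R A A'] [IsLocalization.Away d A'] :
    ∃ F : A' →ₐ[R] D, (∀ a, F (algebraMap A A' a) = ι a) ∧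
      (F : A' → D) = IsLocalization.Away.lift d (S := A') (g := (ι : A →+* D)) hd := by
  let f : A' →+* D := IsLocalization.Away.lift d (S := A') (g := (ι : A →+* D)) hd
  have h1 : ∀ a, f (algebraMap A A' a) = ι a := fun a =>
    IsLocalization.Away.lift_eq d (S := A') (g := (ι : A →+* D)) hd a
  have hcomm : ∀ r : R, f (algebraMap R A' r) = algebraMap R D r := by
    intro r
    rw [IsScalarTower.algebraMap_apply R A A', h1]
    exact ι.commutes r
  exact ⟨{ f with commutes' := hcomm }, h1, rfl⟩

variable [Module.Flat R A]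

/-- the open cell of the closure is the cell -/
lemma nonempty_equiv : Nonempty (Localization.Away (dF c) ≃ₐ[R] CR R idx M) := by
  have hdι : IsUnit (c.ι (dF c)) := by
    rw [map_dF, c.g_map]
    exact isUnit_dd_cellM (isHt_ht (b := b)) _ _
  obtain ⟨F, hF, hF'⟩ := exists_iso_aux c.ι (dF c) hdι (Localization.Away (dF c))
  have hf : Function.Injective F := by
    rw [hF']
    exact lift_injective c (dF c) hdι (Localization.Away (dF c))
  have hm : (c.g.map (algebraMap A (Localization.Away (dF c)))).map
      (F : Localization.Away (dF c) →+* CR R idx M) =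
      cellM S (xU R idx M) (tU R idx M) := by
    refine Eq.trans ?_ c.g_map
    refine Matrix.ext fun j k => ?_
    exact hF (c.g j k)
  have hu' : IsUnit (dd (dg S (ht b)) (c.g.map (algebraMap A (Localization.Away (dF c))))) := by
    rw [dd_map]
    exact IsLocalization.Away.algebraMap_isUnit (dF c)
  obtain ⟨x', t', hx, ht, -⟩ := exists_lift_cell (isHt_ht (b := b))
    (F : Localization.Away (dF c) →+* CR R idx M) hf _ _ _ hm hu'
  exact ⟨AlgEquiv.ofBijective F ⟨hf, surj_of F x' t' hx ht⟩⟩

omit [CommRing A] [Algebra R A] [Module.Flat R A]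

variable (R S) in
/-- **The affine group scheme with torus, root groups and big cell** attached to a Chevalley system, over any
principal ideal domain `R`. -/
theorem exists_matGrp [IsDomain R] [IsPrincipalIdealRing R] :
    ∃ (A : Type u) (_ : CommRing A) (_ : Algebra R A) (_ : PtGrp R A)
      (E : MatGrp S R A), IsDomain A ∧ Module.Flat R A ∧
        Algebra.FinitePresentation R A ∧
        Algebra.Smooth R (Localization.Away E.d) := by
  obtain ⟨A, i1, i2, ⟨c⟩⟩ := exists_clo S R
  have hD : IsDomain (CR R idx M) := isDomain_CR _ _ _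
  have h1 : IsDomain A := isDomain_of_inj c.ι c.inj
  have h2 : Module.Flat R A := flat_of_inj c.ι c.inj (algebraMap_CR_injective _ _ _)
  have h3 : Algebra.FinitePresentation R A := fp_of_gen _ c.gen
  obtain ⟨e⟩ := nonempty_equiv c
  have h4 : Algebra.Smooth R (CR R idx M) := smooth_CR _ _ _
  exact ⟨A, i1, i2, ptGrp c, mkMat c, h1, h2, h3, Algebra.Smooth.of_equiv e.symm⟩

variable (R) in
/-- **The Chevalley group scheme** of a Chevalley system as a `PinCell`. -/
theorem exists_pinCell (S : ChevSys.{u} P b) [IsDomain R] [IsPrincipalIdealRing R] (hP : P.toLinearMap = Module.Dual.eval ℤ M) :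
    ∃ (A : Type u) (_ : CommRing A) (_ : Algebra R A) (_ : PtGrp R A), Nonempty (PinCell P b R A) := by
  obtain ⟨A, i1, i2, i3, E, h1, h2, h3, h4⟩ := exists_matGrp S R
  exact ⟨A, i1, i2, i3, Groth.Agent.RedSub.H549.ToPin.nonempty_pinCell E hP h4⟩

end Groth.Agent.Redsub.H632.X3Final
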