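import Groth.Agent.Redsub.H632.X3Ring

/-!
# The closure of the cell is a group
-/

set_option autoImplicit false
universe u

open Groth.Agent.Sga3B.Cell Groth.Agent.RedSub.H630.ChevDefs Groth.Agent.Redsub.H632.X3Defs
  Groth.Agent.Redsub.H632.X3Mat Groth.Agent.Redsub.H632.X3Ring
open MvPolynomial TensorProduct

namespace Groth.Agent.Redsub.H632.X3Grp

variable {idx M : Type} [Fintype idx] [AddCommGroup M]
  {P : RootPairing idx ℤ M (Module.Dual ℤ M)} [P.IsReduced] {b : P.Base} {S : ChevSys.{u} P b}
  {R A : Type u} [CommRing R] [CommRing A] [Algebra R A] (c : Clo S R A)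
  {B C : Type u} [CommRing B] [Algebra R B] [CommRing C] [Algebra R C]

/-- a matrix stabilises the closure of the cell (by left multiplication) -/
def Stab (p : Matrix S.J S.J B) : Prop := ∀ m : Matrix S.J S.J B, c.IsPt (R := R) m → c.IsPt (R := R) (p * m)

omit [Fintype idx] [P.IsReduced]

lemma Stab.mul {p q : Matrix S.J S.J B} (hp : Stab c p) (hq : Stab c q) : Stab c (p * q) := by
  intro m hm
  rw [mul_assoc]
  exact hp _ (hq _ hm)

lemma Stab.one : Stab c (1 : Matrix S.J S.J B) := by
  intro m hm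
  rwa [one_mul]

lemma Stab.listProd {l : List (Matrix S.J S.J B)} (h : ∀ p ∈ l, Stab c p) : Stab c l.prod := by
  induction l with
  | nil => exact Stab.one c
  | cons p l ih =>
    rw [List.prod_cons]
    exact Stab.mul c (h p (by simp)) (ih fun q hq => h q (by simp [hq]))

/-- `n_a` -/
noncomputable def nm (S : ChevSys.{u} P b) (a : idx) (B : Type u) [CommRing B] : Matrix S.J S.J B :=
  um S a 1 * um S (P.reflectionPerm a a) (-1) * um S a 1

/-- `n_a⁻¹` -/
noncomputable def nmi (S : ChevSys.{u} P b) (a : idx) (B : Type u) [CommRing B] : Matrix S.J S.J B :=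
  um S a (-1) * um S (P.reflectionPerm a a) 1 * um S a (-1)

lemma nm_mul_nmi (a : idx) : nm S a B * nmi S a B = 1 := by
  have h1 : um S a (1 : B) * um S a (-1) = 1 := um_mul_neg S a 1
  have h2 : um S (P.reflectionPerm a a) (-1 : B) * um S (P.reflectionPerm a a) 1 = 1 :=
    um_neg_mul S _ 1
  rw [nm, nmi]
  calc um S a 1 * um S (P.reflectionPerm a a) (-1) * um S a (1 : B) *
        (um S a (-1) * um S (P.reflectionPerm a a) 1 * um S a (-1))
      = um S a 1 * (um S (P.reflectionPerm a a) (-1) * (um S a (1 : B) *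
        um S a (-1)) * um S (P.reflectionPerm a a) 1) * um S a (-1) := by simp only [mul_assoc]
    _ = 1 := by rw [h1, mul_one, h2, mul_one, h1]

lemma nmi_mul_nm (a : idx) : nmi S a B * nm S a B = 1 := mul_eq_one_comm.mp (nm_mul_nmi a)

variable [Finite idx] [P.IsReduced]

omit [Finite idx] [P.IsReduced] in
lemma stab_nm {a : idx} (ha : a ∈ b.support) : Stab c (nm S a B) := by
  refine Stab.mul c (Stab.mul c ?_ ?_) ?_
  · exact fun m hm => c.isPt_pos_mul ha _ hm
  · exact fun m hm => c.isPt_neg_mul ha _ hm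
  · exact fun m hm => c.isPt_pos_mul ha _ hm

omit [Finite idx] [P.IsReduced] in
lemma stab_nmi {a : idx} (ha : a ∈ b.support) : Stab c (nmi S a B) := by
  refine Stab.mul c (Stab.mul c ?_ ?_) ?_
  · exact fun m hm => c.isPt_pos_mul ha _ hm
  · exact fun m hm => c.isPt_neg_mul ha _ hm
  · exact fun m hm => c.isPt_pos_mul ha _ hm

/-- all root elements stabilise the closure -/
lemma stab_um (a : idx) (x : B) : Stab c (um S a x) := by
  revert x
  refine b.induction_reflect a (p := fun a => (∀ x : B, Stab c (um S a x)) ∧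
    (∀ x : B, Stab c (um S (P.reflectionPerm a a) x))) ?_ ?_ ?_ |>.1
  · intro i hi
    refine ⟨hi.2, ?_⟩
    have : P.reflectionPerm (P.reflectionPerm i i) (P.reflectionPerm i i) = i := by
      let := P.indexNeg
      change - - i = i
      exact neg_neg i
    rw [this]
    exact hi.1
  · intro i hi
    exact ⟨fun x m hm => c.isPt_pos_mul hi x hm, fun x m hm => c.isPt_neg_mul hi x hm⟩
  · intro i j hi hj
    have key : ∀ k, (∀ x : B, Stab c (um S k x)) → ∀ x : B, Stab c (um S (P.reflectionPerm j k) x) := by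
      intro i hi x
      obtain ⟨r, hr⟩ := S.conj j hj i
      have h1 : nm S j B * um S i (((r⁻¹ : ℤˣ) : ℤ) * x) = um S (P.reflectionPerm j i) x * nm S j B := by
        have h2 : nm S j B * um S i (((r⁻¹ : ℤˣ) : ℤ) * x) =
          um S (P.reflectionPerm j i) (((r : ℤ) : B) * (((r⁻¹ : ℤˣ) : ℤ) * x)) * nm S j B := hr _
        rw [h2]
        congr 2
        rw [← mul_assoc, ← Int.cast_mul, ← Units.val_mul, mul_inv_cancel]
        simp
      have h3 : um S (P.reflectionPerm j i) x = nm S j B * um S i (((r⁻¹ : ℤˣ) : ℤ) * x) * nmi S j B := by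
        rw [h1, mul_assoc, nm_mul_nmi, mul_one]
      rw [h3]
      exact Stab.mul c (Stab.mul c (stab_nm c hj) (hi _)) (stab_nmi c hj)
    refine ⟨key i hi.1, ?_⟩
    have h4 : P.reflectionPerm (P.reflectionPerm j i) (P.reflectionPerm j i) =
        P.reflectionPerm j (P.reflectionPerm i i) := by
      apply P.root.injective
      rw [P.root_reflectionPerm (P.reflectionPerm j i), P.reflection_apply_self, P.root_reflectionPerm j,
        P.root_reflectionPerm j, P.root_reflectionPerm i, P.reflection_apply_self, map_neg]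
    rw [h4]
    exact key _ hi.2

omit [Finite idx] [P.IsReduced] in
/-- left multiplication by the values of a matrix over a flat algebra: reduction to the universal case -/
lemma stab_of_universal {U : Type u} [CommRing U] [Algebra R U] [Module.Flat R U] (p pi : Matrix S.J S.J U)
    (hp : p * pi = 1) {D : Type u} [CommRing D] [Algebra R D] (κ : A →ₐ[R] D) (hκ : Function.Injective κ)
    (h : c.IsPt (R := R) (p.map (Algebra.TensorProduct.includeLeft : U →ₐ[R] U ⊗[R] D) *
      (c.g.map κ).map (Algebra.TensorProduct.includeRight : D →ₐ[R] U ⊗[R] D)))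
    (u : U →ₐ[R] B) : Stab c (p.map u) := by
  rintro m ⟨f, rfl⟩
  have h1 : c.IsPt (R := R) (p.map (Algebra.TensorProduct.includeLeft : U →ₐ[R] U ⊗[R] A) *
      c.g.map (Algebra.TensorProduct.includeRight : A →ₐ[R] U ⊗[R] A)) := by
    refine c.isPt_of_map (Algebra.TensorProduct.map (AlgHom.id R U) κ) ?_
      (m' := c.gi.map (Algebra.TensorProduct.includeRight : A →ₐ[R] U ⊗[R] A) *
        pi.map (Algebra.TensorProduct.includeLeft : U →ₐ[R] U ⊗[R] A)) ?_ ?_
    · have := Module.Flat.lTensor_preserves_injective_linearMap (M := U) κ.toLinearMap hκ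
      exact this
    · have e1 := c.map_g_mul (Algebra.TensorProduct.includeRight : A →ₐ[R] U ⊗[R] A)
      have e2 : p.map (Algebra.TensorProduct.includeLeft : U →ₐ[R] U ⊗[R] A) *
          pi.map (Algebra.TensorProduct.includeLeft : U →ₐ[R] U ⊗[R] A) = 1 := by
        rw [← Matrix.map_mul, hp]
        exact map_one ((Algebra.TensorProduct.includeLeft : U →ₐ[R] U ⊗[R] A).toRingHom.mapMatrix (m := S.J))
      rw [mul_assoc, ← mul_assoc (c.g.map _), e1, one_mul, e2]
    · rw [Matrix.map_mul]
      have e3 : (p.map (Algebra.TensorProduct.includeLeft : U →ₐ[R] U ⊗[R] A)).map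
          (Algebra.TensorProduct.map (AlgHom.id R U) κ) =
          p.map (Algebra.TensorProduct.includeLeft : U →ₐ[R] U ⊗[R] D) := by
        ext j k; simp
      have e4 : (c.g.map (Algebra.TensorProduct.includeRight : A →ₐ[R] U ⊗[R] A)).map
          (Algebra.TensorProduct.map (AlgHom.id R U) κ) =
          (c.g.map κ).map (Algebra.TensorProduct.includeRight : D →ₐ[R] U ⊗[R] D) := by
        ext j k; simp
      rw [e3, e4]
      exact h
  have h2 := Clo.IsPt.map c h1 (Algebra.TensorProduct.lift u f (fun _ _ => Commute.all _ _))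
  convert h2 using 1
  rw [Matrix.map_mul]
  congr 1
  · ext j k; simp
  · ext j k; simp

omit [Finite idx] [P.IsReduced] in
/-- the torus stabilises the closure -/
lemma stab_tm (t : TPt M B) : Stab c (tm S t) := by
  let U := MonoidAlgebra R (Multiplicative M)
  let tu : TPt M U := (MonoidAlgebra.of R (Multiplicative M)).toHomUnits
  have e1 : (tm S tu).map (evT (R := R) t) = tm S t := by
    rw [tm_map]
    congr 1
    apply TPt.ext_ch
    intro m
    rw [TPt.ch_map]
    change evT t (MonoidAlgebra.single (Multiplicative.ofAdd m) (1 : R)) = _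
    rw [evT_single, map_one, one_mul]
    rfl
  rw [← e1]
  refine stab_of_universal c (tm S tu) (tm S tu⁻¹) (tm_mul_inv S tu) c.ι c.inj ?_ (evT t)
  rw [c.g_map, tm_map, cm_map]
  obtain ⟨x', hx'⟩ := tm_mul_cm S (TPt.map (Algebra.TensorProduct.includeLeft : U →ₐ[R] U ⊗[R] CR R idx M) tu)
    (TPt.map (Algebra.TensorProduct.includeRight : CR R idx M →ₐ[R] U ⊗[R] CR R idx M) (tU R idx M))
    (fun a => (Algebra.TensorProduct.includeRight : CR R idx M →ₐ[R] U ⊗[R] CR R idx M) (xU R idx M a))
  rw [hx']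
  exact c.isPt_cm _ _

lemma stab_pm (L : List idx) (x : idx → B) : Stab c (pm S L x) := by
  refine Stab.listProd c ?_
  intro p hp
  obtain ⟨a, _, rfl⟩ := List.mem_map.mp hp
  exact stab_um c a _

lemma stab_pmi (L : List idx) (x : idx → B) : Stab c (pmi S L x) := by
  refine Stab.listProd c ?_
  intro p hp
  obtain ⟨a, _, rfl⟩ := List.mem_map.mp hp
  exact stab_um c a _

lemma stab_cm (x : idx → B) (t : TPt M B) : Stab c (cm S x t) :=
  Stab.mul c (Stab.mul c (stab_pm c _ _) (stab_tm c t)) (stab_pm c _ _)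

lemma stab_cmi (x : idx → B) (t : TPt M B) : Stab c (cmi S x t) :=
  Stab.mul c (stab_pmi c _ _) (Stab.mul c (stab_tm c _) (stab_pmi c _ _))

/-- the closure of the cell is closed under inversion -/
lemma isPt_gi (f : A →ₐ[R] B) : c.IsPt (R := R) (c.gi.map f) := by
  have h1 : c.IsPt (R := R) c.gi := by
    refine c.isPt_of_map c.ι c.inj c.gi_mul_g ?_
    rw [c.gi_map]
    have := stab_cmi c (xU R idx M) (tU R idx M) 1 c.isPt_one
    rwa [mul_one] at this
  exact Clo.IsPt.map c h1 f

lemma stab_g_aux [Module.Flat R A] {D : Type u} [CommRing D] [Algebra R D] (κ : A →ₐ[R] D)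
    (hκ : Function.Injective κ) (x₀ : idx → D) (t₀ : TPt M D) (hg : c.g.map κ = cm S x₀ t₀)
    (f : A →ₐ[R] B) : Stab c (c.g.map f) := by
  refine stab_of_universal c c.g c.gi c.g_mul_gi (AlgHom.id R A) Function.injective_id ?_ f
  -- over `A ⊗ A`; pass to `D ⊗ A`
  refine c.isPt_of_map (Algebra.TensorProduct.map κ (AlgHom.id R A) :
      A ⊗[R] A →ₐ[R] D ⊗[R] A) ?_
    (m' := c.gi.map (Algebra.TensorProduct.includeRight : A →ₐ[R] A ⊗[R] A) *
        c.gi.map (Algebra.TensorProduct.includeLeft : A →ₐ[R] A ⊗[R] A)) ?_ ?_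
  · have := Module.Flat.rTensor_preserves_injective_linearMap (M := A) κ.toLinearMap hκ
    exact this
  · have e0 : (c.g.map (AlgHom.id R A)) = c.g := rfl
    have e1 := c.map_g_mul (Algebra.TensorProduct.includeRight : A →ₐ[R] A ⊗[R] A)
    have e2 := c.map_g_mul (Algebra.TensorProduct.includeLeft : A →ₐ[R] A ⊗[R] A)
    rw [e0, mul_assoc, ← mul_assoc (c.g.map (Algebra.TensorProduct.includeRight : A →ₐ[R] A ⊗[R] A)), e1,
      one_mul, e2]
  · rw [Matrix.map_mul]
    have e3 : (c.g.map (Algebra.TensorProduct.includeLeft : A →ₐ[R] A ⊗[R] A)).map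
        (Algebra.TensorProduct.map κ (AlgHom.id R A)) =
        cm S (fun a => (Algebra.TensorProduct.includeLeft : D →ₐ[R] D ⊗[R] A) (x₀ a))
          (TPt.map (Algebra.TensorProduct.includeLeft : D →ₐ[R] D ⊗[R] A) t₀) := by
      rw [← cm_map, ← hg]
      ext j k; simp
    rw [e3]
    refine stab_cm c _ _ _ ⟨(Algebra.TensorProduct.map κ (AlgHom.id R A)).comp
      Algebra.TensorProduct.includeRight, ?_⟩
    ext j k; simp

/-- the closure of the cell is closed under multiplication -/
lemma stab_g [Module.Flat R A] (f : A →ₐ[R] B) : Stab c (c.g.map f) :=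
  stab_g_aux c c.ι c.inj _ _ c.g_map f

lemma isPt_mul [Module.Flat R A] {m m' : Matrix S.J S.J B} (h : c.IsPt (R := R) m) (h' : c.IsPt (R := R) m') :
    c.IsPt (R := R) (m * m') := by
  obtain ⟨f, rfl⟩ := h
  exact stab_g c f m' h'

end Groth.Agent.Redsub.H632.X3Grp
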