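import Groth.Agent.Redsub.H632.X3Defs
import Mathlib.LinearAlgebra.Matrix.Determinant.Basic
import Mathlib.Data.Nat.Choose.Sum

/-!
# Matrices of a Chevalley system over arbitrary rings
-/

set_option autoImplicit false
universe u

open Groth.Agent.Sga3B.Cell Groth.Agent.RedSub.H630.ChevDefs Groth.Agent.Redsub.H632.X3Defs

namespace Groth.Agent.Redsub.H632.X3Mat

variable {idx M : Type} [AddCommGroup M]
  {P : RootPairing idx ℤ M (Module.Dual ℤ M)} {b : P.Base} (S : ChevSys.{u} P b)
  {R B C : Type u} [CommRing R] [CommRing B] [CommRing C] [Algebra R B] [Algebra R C]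

/-- root matrices -/
noncomputable def um (a : idx) (x : B) : Matrix S.J S.J B := uMat (S.E a) S.N x

lemma um_apply (a : idx) (x : B) (j k : S.J) :
    um S a x j k = ∑ n ∈ Finset.range S.N, x ^ n * ((S.E a n j k : ℤ) : B) := by
  simp [um, uMat, Matrix.sum_apply]

lemma um_map {F : Type*} [FunLike F B C] [RingHomClass F B C] (φ : F) (a : idx) (x : B) :
    (um S a x).map φ = um S a (φ x) := by
  ext j k
  rw [Matrix.map_apply, um_apply, um_apply, map_sum]
  simp

/-- the matrices are over the trivial index set when `N = 0` -/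
lemma isEmpty_of_N (a : idx) (h : S.N = 0) : IsEmpty S.J := by
  by_contra hne
  rw [not_isEmpty_iff] at hne
  obtain ⟨j⟩ := hne
  have h0 := S.E_zero a
  rw [S.E_van a 0 (by omega)] at h0
  have := congrFun (congrFun h0 j) j
  simp at this

@[simp] lemma um_zero (a : idx) : um S a (0 : B) = 1 := by
  rcases Nat.eq_zero_or_pos S.N with h | h
  · have := isEmpty_of_N S a h
    exact Subsingleton.elim _ _
  · ext j k
    rw [um_apply, Finset.sum_eq_single 0]
    · rw [pow_zero, one_mul, S.E_zero a]
      by_cases hjk : j = k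
      · subst hjk; simp
      · simp [hjk]
    · intro n _ hn
      rw [zero_pow hn, zero_mul]
    · intro hn
      exact absurd (Finset.mem_range.mpr h) hn

lemma um_add (a : idx) (x y : B) : um S a (x + y) = um S a x * um S a y := by
  ext j k
  rw [um_apply, Matrix.mul_apply]
  have h1 : ∀ l, um S a x j l * um S a y l k =
      ∑ m ∈ Finset.range S.N, ∑ n ∈ Finset.range S.N,
        x ^ m * y ^ n * (((S.E a m j l * S.E a n l k : ℤ)) : B) := by
    intro l
    rw [um_apply, um_apply, Finset.sum_mul_sum]
    refine Finset.sum_congr rfl fun m _ => Finset.sum_congr rfl fun n _ => ?_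
    push_cast; ring
  simp_rw [h1]
  rw [Finset.sum_comm]
  simp_rw [Finset.sum_comm (s := Finset.univ)]
  have h2 : ∀ m n, ∑ l, x ^ m * y ^ n * ((S.E a m j l * S.E a n l k : ℤ) : B) =
      x ^ m * y ^ n * (((m + n).choose m : ℕ) : B) * ((S.E a (m + n) j k : ℤ) : B) := by
    intro m n
    rw [← Finset.mul_sum, ← Int.cast_sum]
    have h3 := congrFun (congrFun (S.E_mul a m n) j) k
    rw [Matrix.mul_apply] at h3
    rw [h3]
    simp only [Matrix.smul_apply, smul_eq_mul]
    push_cast; ring
  simp_rw [h2]
  -- reorganise by the value of `m + n`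
  have h4 : ∀ m n, (m, n) ∉ (Finset.range S.N ×ˢ Finset.range S.N) →
      x ^ m * y ^ n * (((m + n).choose m : ℕ) : B) * ((S.E a (m + n) j k : ℤ) : B) = 0 := by
    intro m n hmn
    rw [Finset.mem_product, Finset.mem_range, Finset.mem_range, not_and_or] at hmn
    rw [S.E_van a (m + n) (by simp only [not_lt] at hmn; omega)]
    simp
  rw [← Finset.sum_product']
  rw [← Finset.sum_subset (s₁ := (Finset.range S.N).biUnion fun n => Finset.antidiagonal n)
    (s₂ := Finset.range S.N ×ˢ Finset.range S.N)]
  · rw [Finset.sum_biUnion]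
    · refine Finset.sum_congr rfl fun n _ => ?_
      rw [Commute.add_pow (Commute.all x y), Finset.sum_mul, Finset.Nat.sum_antidiagonal_eq_sum_range_succ_mk]
      refine Finset.sum_congr rfl fun m hm => ?_
      have hm' : m + (n - m) = n := by
        have := Finset.mem_range.mp hm
        omega
      simp only [hm']
    · intro m _ n _ hmn
      rw [Function.onFun, Finset.disjoint_left]
      rintro ⟨p, q⟩ hp hq
      rw [Finset.mem_antidiagonal] at hp hq
      exact hmn (hp.symm.trans hq)
  · rintro ⟨m, n⟩ hmn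
    rw [Finset.mem_biUnion] at hmn
    obtain ⟨k, hk, hmn⟩ := hmn
    rw [Finset.mem_antidiagonal] at hmn
    rw [Finset.mem_range] at hk
    simp only at hmn
    rw [Finset.mem_product, Finset.mem_range, Finset.mem_range]
    omega
  · rintro ⟨m, n⟩ _ hmn
    rw [Finset.mem_biUnion, not_exists] at hmn
    have : ¬ (m + n < S.N) := fun h => hmn (m + n) ⟨Finset.mem_range.mpr h, by simp⟩
    rw [S.E_van a (m + n) (by omega)]
    simp

lemma um_mul_neg (a : idx) (x : B) : um S a x * um S a (-x) = 1 := by
  rw [← um_add, add_neg_cancel, um_zero]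

lemma um_neg_mul (a : idx) (x : B) : um S a (-x) * um S a x = 1 := by
  rw [← um_add, neg_add_cancel, um_zero]

lemma um_mul_self_neg_one (a : idx) : um S a (1 : B) * um S a (-1) = 1 := um_mul_neg S a 1

/-- torus matrices -/
noncomputable def tm (t : TPt M B) : Matrix S.J S.J B := tMat S.wt t

lemma tm_map (φ : B →ₐ[R] C) (t : TPt M B) : (tm S t).map φ = tm S (TPt.map φ t) := by
  ext j k
  by_cases h : j = k
  · subst h; simp [tm, tMat]
  · simp [tm, tMat, h]

@[simp] lemma tm_one : tm S (1 : TPt M B) = 1 := by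
  simp [tm, tMat]

lemma tm_mul (s t : TPt M B) : tm S (s * t) = tm S s * tm S t := by
  simp [tm, tMat, Matrix.diagonal_mul_diagonal]

lemma tm_mul_inv (t : TPt M B) : tm S t * tm S t⁻¹ = 1 := by
  have h : t * t⁻¹ = 1 := mul_inv_cancel t
  rw [← tm_mul, h, tm_one]

lemma tm_inv_mul (t : TPt M B) : tm S t⁻¹ * tm S t = 1 := by
  have h : t⁻¹ * t = 1 := inv_mul_cancel t
  rw [← tm_mul, h, tm_one]

lemma ch_nsmul (m : M) (n : ℕ) (t : TPt M B) : TPt.ch (n • m) t = TPt.ch m t ^ n := by
  induction n with
  | zero => simp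
  | succ n ih => rw [succ_nsmul, TPt.ch_add, ih, pow_succ]

/-- the torus normalises the root groups -/
lemma tm_mul_um (a : idx) (t : TPt M B) (x : B) :
    tm S t * um S a x = um S a (TPt.ch (P.root a) t * x) * tm S t := by
  ext j k
  rw [tm, tMat, Matrix.diagonal_mul, Matrix.mul_diagonal, um_apply, um_apply, Finset.mul_sum,
    Finset.sum_mul]
  refine Finset.sum_congr rfl fun n _ => ?_
  by_cases h : S.E a n j k = 0
  · simp [h]
  · rw [S.E_wt a n j k h, TPt.ch_add, ch_nsmul, mul_pow]
    ring

/-! ### products over lists -/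

/-- ordered products of root matrices -/
noncomputable def pm (L : List idx) (x : idx → B) : Matrix S.J S.J B :=
  (L.map fun a => um S a (x a)).prod

lemma pm_map (φ : B →ₐ[R] C) (L : List idx) (x : idx → B) :
    (pm S L x).map φ = pm S L (fun a => φ (x a)) := by
  have h : (pm S L x).map φ = φ.toRingHom.mapMatrix (pm S L x) := rfl
  rw [h, pm, map_list_prod, List.map_map, pm]
  congr 1
  refine List.map_congr_left fun a _ => ?_
  exact um_map S φ a (x a)

lemma pm_congr {L : List idx} {x y : idx → B} (h : ∀ a ∈ L, x a = y a) : pm S L x = pm S L y := by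
  rw [pm, pm]
  congr 1
  exact List.map_congr_left fun a ha => by rw [h a ha]

@[simp] lemma pm_zero (L : List idx) : pm S L (fun _ => (0 : B)) = 1 := by
  rw [pm]
  exact List.prod_eq_one (by simp)

open Classical in
lemma pm_single (L : List idx) (hL : L.Nodup) (a : idx) (ha : a ∈ L) (x : B) :
    pm S L (Pi.single a x) = um S a x := by
  induction L with
  | nil => simp at ha
  | cons c L ih =>
    rw [List.nodup_cons] at hL
    have h1 : pm S (c :: L) (Pi.single a x) = um S c ((Pi.single a x : idx → B) c) *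
      pm S L (Pi.single a x) := by simp [pm]
    rw [h1]
    by_cases hac : a = c
    · subst hac
      rw [Pi.single_eq_same, pm_congr S (y := fun _ => (0 : B)), pm_zero, mul_one]
      intro d hd
      rw [Pi.single_eq_of_ne]
      rintro rfl
      exact hL.1 hd
    · rw [Pi.single_eq_of_ne (Ne.symm hac), um_zero, one_mul]
      refine ih hL.2 ?_
      rcases List.mem_cons.mp ha with h | h
      · exact absurd h hac
      · exact h

lemma tm_mul_pm (L : List idx) (t : TPt M B) (x : idx → B) :
    tm S t * pm S L x = pm S L (fun a => TPt.ch (P.root a) t * x a) * tm S t := by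
  induction L with
  | nil => simp [pm]
  | cons a L ih =>
    have h1 : ∀ y : idx → B, pm S (a :: L) y = um S a (y a) * pm S L y := fun y => by simp [pm]
    rw [h1, h1, ← mul_assoc, tm_mul_um, mul_assoc, ih, mul_assoc]

/-- the inverse of an ordered product -/
noncomputable def pmi (L : List idx) (x : idx → B) : Matrix S.J S.J B :=
  (L.reverse.map fun a => um S a (-x a)).prod

lemma pm_mul_pmi (L : List idx) (x : idx → B) : pm S L x * pmi S L x = 1 := by
  induction L with
  | nil => simp [pm, pmi]
  | cons a L ih =>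
    have h1 : pm S (a :: L) x = um S a (x a) * pm S L x := by simp [pm]
    have h2 : pmi S (a :: L) x = pmi S L x * um S a (-x a) := by simp [pmi]
    rw [h1, h2, mul_assoc, ← mul_assoc (pm S L x), ih, one_mul, um_mul_neg]

lemma pmi_mul_pm (L : List idx) (x : idx → B) : pmi S L x * pm S L x = 1 :=
  mul_eq_one_comm.mp (pm_mul_pmi S L x)

lemma pmi_map (φ : B →ₐ[R] C) (L : List idx) (x : idx → B) :
    (pmi S L x).map φ = pmi S L (fun a => φ (x a)) := by
  have h : (pmi S L x).map φ = φ.toRingHom.mapMatrix (pmi S L x) := rfl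
  rw [h, pmi, map_list_prod, List.map_map, pmi]
  congr 1
  refine List.map_congr_left fun a _ => ?_
  have := um_map S φ a (-x a)
  rw [map_neg] at this
  exact this

/-- the matrix of a point of the cell -/
noncomputable def cm (x : idx → B) (t : TPt M B) : Matrix S.J S.J B :=
  pm S S.negL x * tm S t * pm S S.posL x

/-- the inverse of the matrix of a point of the cell -/
noncomputable def cmi (x : idx → B) (t : TPt M B) : Matrix S.J S.J B :=
  pmi S S.posL x * (tm S t⁻¹ * pmi S S.negL x)

lemma cm_mul_cmi (x : idx → B) (t : TPt M B) : cm S x t * cmi S x t = 1 := by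
  rw [cm, cmi, mul_assoc, ← mul_assoc (pm S S.posL x), pm_mul_pmi, one_mul, mul_assoc,
    ← mul_assoc (tm S t), tm_mul_inv, one_mul, pm_mul_pmi]

lemma cm_map (φ : B →ₐ[R] C) (x : idx → B) (t : TPt M B) :
    (cm S x t).map φ = cm S (fun a => φ (x a)) (TPt.map φ t) := by
  rw [cm, Matrix.map_mul, Matrix.map_mul, pm_map, pm_map, tm_map, cm]

lemma cmi_map (φ : B →ₐ[R] C) (x : idx → B) (t : TPt M B) :
    (cmi S x t).map φ = cmi S (fun a => φ (x a)) (TPt.map φ t) := by
  rw [cmi, Matrix.map_mul, Matrix.map_mul, pmi_map, pmi_map, tm_map, cmi]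
  rfl

lemma cm_zero_one : cm S (fun _ => (0 : B)) 1 = 1 := by
  rw [cm, pm_zero, pm_zero, tm_one, mul_one, mul_one]

/-- combine the negative coordinates of one function with the positive coordinates of another -/
noncomputable def comb (S : ChevSys.{u} P b) (x y : idx → B) : idx → B := by
  classical exact fun a => if a ∈ S.posL then y a else x a

lemma comb_pos (x y : idx → B) {a : idx} (ha : a ∈ S.posL) : comb S x y a = y a := by
  simp [comb, ha]

lemma comb_neg (x y : idx → B) {a : idx} (ha : a ∈ S.negL) : comb S x y a = x a := by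
  have h : a ∉ S.posL := by
    rw [S.mem_posL]
    exact (S.mem_negL a).mp ha
  simp [comb, h]

lemma cm_comb (x y : idx → B) (t : TPt M B) :
    pm S S.negL x * tm S t * pm S S.posL y = cm S (comb S x y) t := by
  rw [cm, pm_congr S (x := comb S x y) (y := x) fun a ha => comb_neg S x y ha,
    pm_congr S (x := comb S x y) (y := y) fun a ha => comb_pos S x y ha]

lemma neg_mem_negL {a : idx} (ha : a ∈ b.support) : P.reflectionPerm a a ∈ S.negL := by
  rw [S.mem_negL]
  have h1 := b.isPos_of_mem_support ha
  have h2 : b.height (P.reflectionPerm a a) = - b.height a :=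
    RootPairing.Base.height_reflectionPerm_self b a
  simp only [RootPairing.Base.IsPos] at h1 ⊢
  omega

/-! ### left multiplication of the cell by elements of the torus and of the simple root groups -/

lemma tm_mul_cm (s t : TPt M B) (x : idx → B) :
    ∃ x', tm S s * cm S x t = cm S x' (s * t) := by
  refine ⟨comb S (fun a => TPt.ch (P.root a) s * x a) x, ?_⟩
  rw [← cm_comb, cm, ← mul_assoc, ← mul_assoc, tm_mul_pm, tm_mul]
  simp only [mul_assoc]

lemma neg_mul_cm {a : idx} (ha : a ∈ b.support) (y : B) (x : idx → B) (t : TPt M B) :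
    ∃ x', um S (P.reflectionPerm a a) y * cm S x t = cm S x' t := by
  classical
  have hna : P.reflectionPerm a a ∈ S.negL := neg_mem_negL S ha
  obtain ⟨z, hz, -⟩ := S.neg_mul (Pi.single (P.reflectionPerm a a) y) x
  refine ⟨comb S z x, ?_⟩
  rw [← cm_comb, cm, ← mul_assoc, ← mul_assoc]
  congr 2
  rw [← pm_single S S.negL S.negL_nodup _ hna y]
  exact hz

lemma pos_mul_cm {a : idx} (ha : a ∈ b.support) (y : B) (x : idx → B) (t : TPt M B) (v : Bˣ)
    (hv : (v : B) = 1 + y * x (P.reflectionPerm a a)) :
    ∃ x' t', um S a y * cm S x t = cm S x' t' := by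
  classical
  have hna : P.reflectionPerm a a ∈ S.negL := neg_mem_negL S ha
  have hpa : a ∈ S.posL := (S.mem_posL a).mpr (b.isPos_of_mem_support ha)
  set na := P.reflectionPerm a a with hnadef
  -- split off `u_{-a}`
  obtain ⟨z, hz, hz0⟩ := S.neg_mul (Pi.single na (-x na)) x
  have hz1 : z na = 0 := by
    rw [hnadef, hz0 a ha]
    rw [← hnadef, Pi.single_eq_same, neg_add_cancel]
  have hz2 : pm S S.negL x = um S na (x na) * pm S S.negL z := by
    have h3 : um S na (-x na) * pm S S.negL x = pm S S.negL z := by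
      rw [← pm_single S S.negL S.negL_nodup _ hna (-x na)]
      exact hz
    rw [← h3, ← mul_assoc, um_mul_neg, one_mul]
  obtain ⟨z', hz', hz3⟩ := S.neg_norm a ha ((v⁻¹ : Bˣ) * y) z hz1
  have hz4 : um S a ((v⁻¹ : Bˣ) * y) * pm S S.negL z = pm S S.negL z' * um S a ((v⁻¹ : Bˣ) * y) := hz3
  have hr := S.rank1 a ha y (x na) v hv
  have hr' : um S a y * um S na (x na) = um S na ((v⁻¹ : Bˣ) * x na) * tm S (TPt.cow (P.coroot a) v) *
    um S a ((v⁻¹ : Bˣ) * y) := hr
  -- combine
  set s := TPt.cow (P.coroot a) v with hs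
  obtain ⟨w, hw, -⟩ := S.neg_mul (Pi.single na ((v⁻¹ : Bˣ) * x na)) (fun c => TPt.ch (P.root c) s * z' c)
  have hw' : um S na ((v⁻¹ : Bˣ) * x na) * pm S S.negL (fun c => TPt.ch (P.root c) s * z' c) =
      pm S S.negL w := by
    rw [← pm_single S S.negL S.negL_nodup _ hna]
    exact hw
  set q := TPt.ch (P.root a) t⁻¹ * ((v⁻¹ : Bˣ) * y) with hq
  have h5 : um S a ((v⁻¹ : Bˣ) * y) * tm S t = tm S t * um S a q := by
    have h6 := tm_mul_um S a t q
    have h7 : TPt.ch (P.root a) t * q = (v⁻¹ : Bˣ) * y := by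
      rw [hq, ← mul_assoc, ← TPt.ch_mul]
      have h : t * t⁻¹ = 1 := mul_inv_cancel t
      rw [h, TPt.ch_one, one_mul]
    rw [h7] at h6
    exact h6.symm
  obtain ⟨w₂, hw₂, -⟩ := S.pos_mul (Pi.single a q) x
  have hw₂' : um S a q * pm S S.posL x = pm S S.posL w₂ := by
    rw [← pm_single S S.posL S.posL_nodup _ hpa]
    exact hw₂
  refine ⟨comb S w w₂, s * t, ?_⟩
  rw [← cm_comb, cm, hz2]
  calc um S a y * (um S na (x na) * pm S S.negL z * tm S t * pm S S.posL x)
      = (um S a y * um S na (x na)) * (pm S S.negL z * tm S t * pm S S.posL x) := by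
        simp only [mul_assoc]
    _ = um S na ((v⁻¹ : Bˣ) * x na) * tm S s * ((um S a ((v⁻¹ : Bˣ) * y) * pm S S.negL z) *
          (tm S t * pm S S.posL x)) := by
        rw [hr']; simp only [mul_assoc]
    _ = um S na ((v⁻¹ : Bˣ) * x na) * (tm S s * pm S S.negL z') * ((um S a ((v⁻¹ : Bˣ) * y) *
          tm S t) * pm S S.posL x) := by
        rw [hz4]; simp only [mul_assoc]
    _ = (um S na ((v⁻¹ : Bˣ) * x na) * pm S S.negL (fun c => TPt.ch (P.root c) s * z' c)) *
          (tm S s * tm S t) * (um S a q * pm S S.posL x) := by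
        rw [tm_mul_pm, h5]; simp only [mul_assoc]
    _ = pm S S.negL w * tm S (s * t) * pm S S.posL w₂ := by
        rw [hw', hw₂', ← tm_mul]

end Groth.Agent.Redsub.H632.X3Mat
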