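import Groth.Agent.Redsub.H632.X3Pt

/-!
# `MatGrp` from the closure of the cell
-/

set_option autoImplicit false
universe u

open Groth.Agent.Sga3B.Cell Groth.Agent.RedSub.H630.ChevDefs Groth.Agent.Redsub.H632.X3Defs
  Groth.Agent.Redsub.H632.X3Mat Groth.Agent.Redsub.H632.X3Ring Groth.Agent.Redsub.H632.X3Grp
  Groth.Agent.Redsub.H632.X3Coord Groth.Agent.Redsub.H632.X3Pt
open Groth.Agent.RedSub.H630.CellLift Groth.Agent.RedSub.H630.BlockLU

namespace Groth.Agent.Redsub.H632.X3Mk

variable {idx M : Type} [Fintype idx] [AddCommGroup M] [Module.Free ℤ M] [Module.Finite ℤ M]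
  {P : RootPairing idx ℤ M (Module.Dual ℤ M)} [P.IsReduced] {b : P.Base} {S : ChevSys.{u} P b}
  {R A : Type u} [CommRing R] [CommRing A] [Algebra R A] (c : Clo S R A)
  {B C : Type u} [CommRing B] [Algebra R B] [CommRing C] [Algebra R C]

omit [Fintype idx] [Module.Free ℤ M] [Module.Finite ℤ M] [P.IsReduced] in
/-- the localisation of the closure at a function which is a unit on the cell embeds in the ring of the cell -/
lemma lift_injective (d : A) (hd : IsUnit (c.ι d)) (A' : Type u) [CommRing A'] [Algebra A A'] [IsLocalization.Away d A'] :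
    Function.Injective (IsLocalization.Away.lift d (S := A') (g := (c.ι : A →+* CR R idx M)) hd) := by
  rw [injective_iff_map_eq_zero]
  intro z hz
  obtain ⟨n, a, hn⟩ := IsLocalization.Away.surj d z
  have h1 : IsLocalization.Away.lift d (S := A') (g := (c.ι : A →+* CR R idx M)) hd (algebraMap A A' a) = 0 := by
    rw [← hn, map_mul, hz, zero_mul]
  rw [IsLocalization.Away.lift_eq] at h1
  have h2 : a = 0 := by
    apply c.inj
    rw [map_zero]
    exact h1
  rw [h2, map_zero] at hn
  have h3 : IsUnit (algebraMap A A' (d ^ n)) := by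
    rw [map_pow]
    exact (IsLocalization.Away.algebraMap_isUnit d).pow n
  rw [← map_pow] at hn
  exact (h3.mul_left_eq_zero).mp hn

variable [Module.Flat R A]

/-- the cell as a principal open subset -/
theorem mem_cell_iff (g : Pt R A B) :
    (∃ (x : idx → B) (t : TPt M B), mt c g = cellM S x t) ↔ IsUnit (g.hom (dF c)) := by
  constructor
  · rintro ⟨x, t, h⟩
    rw [map_dF]
    have h' : c.g.map g.hom = cellM S x t := h
    rw [h']
    exact isUnit_dd_cellM (isHt_ht (b := b)) x t
  · intro hu
    -- the universal case: the localisation `A_d`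
    set d := dF c with hd
    have hdι : IsUnit (c.ι d) := by
      rw [hd, map_dF, c.g_map]
      exact isUnit_dd_cellM (isHt_ht (b := b)) _ _
    let A' := Localization.Away d
    let f : A' →+* CR R idx M := IsLocalization.Away.lift d (S := A') (g := (c.ι : A →+* CR R idx M)) hdι
    have hf : Function.Injective f := lift_injective c d hdι A'
    have hm : (c.g.map (algebraMap A A')).map f = cellM S (xU R idx M) (tU R idx M) := by
      refine Eq.trans ?_ c.g_map
      refine Matrix.ext fun j k => ?_
      exact IsLocalization.Away.lift_eq d (S := A') (g := (c.ι : A →+* CR R idx M)) hdι (c.g j k)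
    have hu' : IsUnit (dd (dg S (ht b)) (c.g.map (algebraMap A A'))) := by
      rw [dd_map]
      exact IsLocalization.Away.algebraMap_isUnit d
    obtain ⟨x', t', -, -, h'⟩ := exists_lift_cell (isHt_ht (b := b)) f hf _ _ _ hm hu'
    let k : A' →+* B := IsLocalization.Away.lift d (S := A') (g := (g.hom : A →+* B)) hu
    have hk : mt c g = (c.g.map (algebraMap A A')).map k := by
      refine Matrix.ext fun i j => ?_
      exact (IsLocalization.Away.lift_eq d (S := A') (g := (g.hom : A →+* B)) hu (c.g i j)).symm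
    rw [hk, h', cellM_map]
    exact ⟨_, _, rfl⟩

lemma surj_uP (a : idx) :
    Function.Surjective (uP c a (Polynomial.X : Polynomial R) : Pt R A (Polynomial R)).hom := by
  have h1 : c.g.map (uP c a (Polynomial.X : Polynomial R) : Pt R A (Polynomial R)).hom =
    um S a (Polynomial.X : Polynomial R) := mt_uP c a _
  set f : A →ₐ[R] Polynomial R := (uP c a (Polynomial.X : Polynomial R) : Pt R A (Polynomial R)).hom
  have hX : (Polynomial.X : Polynomial R) ∈ f.range := by
    have h2 := phiB_um S a (Polynomial.X : Polynomial R)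
    rw [← h2]
    refine phiB_mem S (T := f.range.toSubring) a fun j k => ?_
    rw [← h1]
    exact ⟨c.g j k, rfl⟩
  have h3 : f.range = ⊤ := by
    rw [eq_top_iff, ← Polynomial.adjoin_X, Algebra.adjoin_le_iff, Set.singleton_subset_iff]
    exact hX
  exact AlgHom.range_eq_top f |>.mp h3

/-- units of `ℤ` in a ring -/
def uZ (R : Type u) [CommRing R] (r : ℤˣ) : Rˣ := Units.map (Int.castRingHom R : ℤ →* R) r

omit [Fintype idx] [Module.Free ℤ M] [Module.Finite ℤ M] [P.IsReduced] [CommRing A] [Algebra R A] [Module.Flat R A] in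
lemma algebraMap_uZ (r : ℤˣ) : algebraMap R B (uZ R r) = ((r : ℤ) : B) := by
  simp [uZ]

lemma mt_nn (a : idx) : letI := ptGrp c;
    mt c (uP c a (1 : B) * uP c (P.reflectionPerm a a) (-1) * uP c a 1 : Pt R A B) = nm S a B := by
  letI := ptGrp c
  have h1 := grp_mul c (uP c a (1 : B) * uP c (P.reflectionPerm a a) (-1)) (uP c a 1 : Pt R A B)
  have h2 := grp_mul c (uP c a (1 : B)) (uP c (P.reflectionPerm a a) (-1) : Pt R A B)
  rw [mt_uP, mt_uP] at h2
  rw [h2, mt_uP] at h1
  exact h1

/-- The group functor with torus, root groups and cell. -/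
noncomputable def mkCell : letI := ptGrp c; CellGrp P b R A :=
  letI := ptGrp c
  have hmul : ∀ {B : Type u} [CommRing B] [Algebra R B] (f g : Pt R A B), mt c (f * g) = mt c f * mt c g :=
    fun f g => grp_mul c f g
  have hone : ∀ {B : Type u} [CommRing B] [Algebra R B], mt c (1 : Pt R A B) = 1 := grp_one c
  { i := tH c
    i_nat := fun φ t => mt_inj c (by
      rw [mt_map]
      have h1 := mt_tP c t
      have h2 := mt_tP c (TPt.map φ t)
      refine (congrArg (fun m : Matrix S.J S.J _ => m.map φ) h1).trans (Eq.trans ?_ h2.symm)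
      exact tm_map S φ t)
    i_inj := fun B _ _ s t h => by
      have h1 : tm S s = tm S t := by
        rw [← mt_tP c s, ← mt_tP c t]
        exact congrArg (mt c) h
      refine (cellM_inj (S := S) (x := fun _ => (0 : B)) (x' := fun _ => 0) ?_).2
      have h2 : ∀ s : TPt M B, cellM S (fun _ => (0 : B)) s = tm S s := by
        intro s
        have : cellM S (fun _ => (0 : B)) s = pm S S.negL (fun _ => (0 : B)) * tm S s * pm S S.posL (fun _ => 0) := rfl
        rw [this, pm_zero, pm_zero, one_mul, mul_one]
      rw [h2, h2, h1]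
    uu := fun a B _ _ x => uP c a x
    uu_add := fun a _ _ _ x y => mt_inj c (by rw [hmul, mt_uP, mt_uP, mt_uP, um_add])
    uu_nat := fun a _ _ _ _ _ _ φ x => mt_inj c (by rw [mt_map, mt_uP, mt_uP, um_map])
    uu_surj := fun a => surj_uP c a
    rel := fun a _ _ _ t x => by
      rw [mul_inv_eq_iff_eq_mul]
      apply mt_inj c
      have h1 := mt_tP c t
      have h2 : mt c (tH c _ t) = tm S t := h1
      rw [hmul, hmul, mt_uP, mt_uP, h2, tm_mul_um]
    rank1 := fun a ha _ _ _ x y v hv => mt_inj c (by
      have h2 : mt c (tH c _ (TPt.cow (P.coroot a) v)) = tm S (TPt.cow (P.coroot a) v) := mt_tP c _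
      rw [hmul, hmul, hmul, mt_uP, mt_uP, mt_uP, mt_uP, h2]
      exact S.rank1 a ha x y v hv)
    comm := fun a ha c' hc hac _ _ _ x y => mt_inj c (by
      rw [hmul, hmul, mt_uP, mt_uP]
      exact S.comm a ha c' hc hac x y)
    conjT := fun a ha {B} _ _ t => by
      rw [mul_inv_eq_iff_eq_mul]
      apply mt_inj c
      have h2 : ∀ t : TPt M B, mt c (tH c B t) = tm S t := fun t => mt_tP c t
      rw [hmul, hmul _ (_ * _ * _), mt_nn, h2, h2]
      exact S.conjT a ha t
    conj := fun a ha c' => by
      obtain ⟨r, hr⟩ := S.conj a ha c'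
      refine ⟨uZ R r, fun {B} _ _ x => ?_⟩
      rw [mul_inv_eq_iff_eq_mul]
      apply mt_inj c
      rw [hmul, hmul _ (_ * _ * _), mt_nn, mt_uP, mt_uP, algebraMap_uZ]
      exact hr x
    posL := S.posL
    posL_nodup := S.posL_nodup
    mem_posL := S.mem_posL
    posL_sorted := S.posL_sorted
    negL := S.negL
    negL_nodup := S.negL_nodup
    mem_negL := S.mem_negL
    negL_sorted := S.negL_sorted
    pos_mul := fun x y => by
      obtain ⟨z, hz, hz'⟩ := S.pos_mul x y
      refine ⟨z, mt_inj c ?_, hz'⟩
      rw [hmul, mt_listProd, mt_listProd, mt_listProd]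
      exact hz
    pos_inv := fun x => by
      obtain ⟨z, hz⟩ := S.pos_inv x
      refine ⟨z, ?_⟩
      rw [inv_eq_iff_mul_eq_one]
      apply mt_inj c
      rw [hmul, mt_listProd, mt_listProd, hone]
      exact hz
    neg_mul := fun x y => by
      obtain ⟨z, hz, hz'⟩ := S.neg_mul x y
      refine ⟨z, mt_inj c ?_, hz'⟩
      rw [hmul, mt_listProd, mt_listProd, mt_listProd]
      exact hz
    neg_inv := fun x => by
      obtain ⟨z, hz⟩ := S.neg_inv x
      refine ⟨z, ?_⟩
      rw [inv_eq_iff_mul_eq_one]
      apply mt_inj c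
      rw [hmul, mt_listProd, mt_listProd, hone]
      exact hz
    pos_norm := fun a ha _ _ _ t x hx => by
      obtain ⟨z, hz0, hz⟩ := S.pos_norm a ha t x hx
      refine ⟨z, hz0, mt_inj c ?_⟩
      rw [hmul, hmul, mt_listProd, mt_listProd, mt_uP]
      exact hz
    neg_norm := fun a ha _ _ _ t x hx => by
      obtain ⟨z, hz0, hz⟩ := S.neg_norm a ha t x hx
      refine ⟨z, hz0, mt_inj c ?_⟩
      rw [hmul, hmul, mt_listProd, mt_listProd, mt_uP]
      exact hz
    cell_inj := fun x x' t t' h => by
      have h1 := congrArg (mt c) h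
      rw [mt_cell, mt_cell] at h1
      exact cellM_inj (S := S) h1
    d := dF c
    mem_cell_iff := fun g => by
      rw [← mem_cell_iff c g]
      constructor
      · rintro ⟨x, t, h⟩
        refine ⟨x, t, ?_⟩
        rw [h]
        exact mt_cell c x t
      · rintro ⟨x, t, h⟩
        refine ⟨x, t, mt_inj c ?_⟩
        rw [h]
        exact (mt_cell c x t).symm }

/-- The group functor as a closed subgroup of `GL_J`. -/
noncomputable def mkMat : letI := ptGrp c; MatGrp S R A :=
  letI := ptGrp c
  { toCellGrp := mkCell c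
    mat := fun B _ _ => mtHom c B
    mat_nat := fun φ g => mt_map c φ g
    mat_inj := fun B _ _ _ _ h => mt_inj c h
    mat_lift := fun φ hφ g m m' h h' => by
      have h1 : m * m' = 1 := by
        apply c.map_injective φ hφ
        rw [Matrix.map_mul, ← h, ← h', ← map_mul, mul_inv_cancel, map_one]
        exact (map_one (φ.toRingHom.mapMatrix (m := S.J))).symm
      obtain ⟨k, hk, hk'⟩ := c.descend φ hφ g.hom m m' h1 h
      exact ⟨Pt.mk k, hk', hk⟩
    mat_i := fun t => mt_tP c t
    mat_uu := fun a _ _ _ x => mt_uP c a x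
    posL_eq := rfl
    negL_eq := rfl }

end Groth.Agent.Redsub.H632.X3Mk
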