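import Groth.Agent.Redsub.H632.X3Grp
import Groth.Agent.Redsub.H632.X3Coord
import Groth.Agent.RedSub.H630.CellLift
import Mathlib.Algebra.Group.MinimalAxioms

/-!
# The group structure on the points of the closure of the cell, and `MatGrp`
-/

set_option autoImplicit false
universe u

open Groth.Agent.Sga3B.Cell Groth.Agent.RedSub.H630.ChevDefs Groth.Agent.Redsub.H632.X3Defs
  Groth.Agent.Redsub.H632.X3Mat Groth.Agent.Redsub.H632.X3Ring Groth.Agent.Redsub.H632.X3Grp
  Groth.Agent.Redsub.H632.X3Coord
open Groth.Agent.RedSub.H630.CellLift Groth.Agent.RedSub.H630.BlockLU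

namespace Groth.Agent.Redsub.H632.X3Pt

variable {idx M : Type} [AddCommGroup M]
  {P : RootPairing idx ℤ M (Module.Dual ℤ M)} {b : P.Base} {S : ChevSys.{u} P b}
  {R A : Type u} [CommRing R] [CommRing A] [Algebra R A] (c : Clo S R A)
  {B C : Type u} [CommRing B] [Algebra R B] [CommRing C] [Algebra R C]

/-- the matrix of a point -/
def mt (f : Pt R A B) : Matrix S.J S.J B := c.g.map f.hom

lemma mt_inj {f f' : Pt R A B} (h : mt c f = mt c f') : f = f' := c.hom_ext h

lemma mt_map (φ : B →ₐ[R] C) (f : Pt R A B) : mt c (Pt.map φ f) = (mt c f).map φ := rfl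

/-- the point with a given matrix -/
noncomputable def ptOf (m : Matrix S.J S.J B) (h : c.IsPt (R := R) m) : Pt R A B := Pt.mk h.choose

lemma mt_ptOf (m : Matrix S.J S.J B) (h : c.IsPt (R := R) m) : mt c (ptOf c m h) = m := h.choose_spec

lemma isPt_mt (f : Pt R A B) : c.IsPt (R := R) (mt c f) := ⟨f.hom, rfl⟩

variable [Finite idx] [P.IsReduced] [Module.Flat R A]

/-- the group structure on points -/
@[reducible] noncomputable def grp (B : Type u) [CommRing B] [Algebra R B] : Group (Pt R A B) :=
  letI : Mul (Pt R A B) := ⟨fun f g => ptOf c _ (isPt_mul c (isPt_mt c f) (isPt_mt c g))⟩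
  letI : One (Pt R A B) := ⟨ptOf c 1 c.isPt_one⟩
  letI : Inv (Pt R A B) := ⟨fun f => ptOf c _ (isPt_gi c f.hom)⟩
  have hmul : ∀ f g : Pt R A B, mt c (f * g) = mt c f * mt c g := fun f g => mt_ptOf c _ _
  have hone : mt c (1 : Pt R A B) = 1 := mt_ptOf c _ _
  have hinv : ∀ f : Pt R A B, mt c f⁻¹ = c.gi.map f.hom := fun f => mt_ptOf c _ _
  Group.ofLeftAxioms
    (fun f g h => mt_inj c (by rw [hmul, hmul, hmul, hmul, mul_assoc]))
    (fun f => mt_inj c (by rw [hmul, hone, one_mul]))
    (fun f => mt_inj c (by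
      rw [hmul, hone, hinv]
      exact mul_eq_one_comm.mp (c.map_g_mul f.hom)))

lemma grp_mul (f g : Pt R A B) : letI := grp c B; mt c (f * g) = mt c f * mt c g := mt_ptOf c _ _

lemma grp_one : letI := grp c B; mt c (1 : Pt R A B) = 1 := mt_ptOf c _ _

/-- the group functor -/
@[reducible] noncomputable def ptGrp : PtGrp R A where
  grp B _ _ := grp c B
  map_mul' φ f g := by
    apply mt_inj c
    rw [grp_mul, mt_map, grp_mul, Matrix.map_mul, mt_map, mt_map]

/-- the matrix as a homomorphism -/
noncomputable def mtHom (B : Type u) [CommRing B] [Algebra R B] :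
    letI := ptGrp c; Pt R A B →* Matrix S.J S.J B :=
  letI := ptGrp c
  { toFun := mt c
    map_one' := grp_one c
    map_mul' := grp_mul c }

lemma mt_inv (f : Pt R A B) : letI := ptGrp c; mt c f⁻¹ = c.gi.map f.hom := by
  letI := ptGrp c
  apply c.map_gi_eq f.hom
  have := (mtHom c B).map_mul f f⁻¹
  rw [mul_inv_cancel, map_one] at this
  exact this.symm

/-- root elements -/
noncomputable def uP (a : idx) (x : B) : Pt R A B :=
  ptOf c (um S a x) (by simpa using stab_um c a x 1 c.isPt_one)

lemma mt_uP (a : idx) (x : B) : mt c (uP c a x) = um S a x := mt_ptOf c _ _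

/-- torus elements -/
noncomputable def tP (t : TPt M B) : Pt R A B :=
  ptOf c (tm S t) (by simpa using stab_tm c t 1 c.isPt_one)

lemma mt_tP (t : TPt M B) : mt c (tP c t) = tm S t := mt_ptOf c _ _

/-- torus as a homomorphism -/
noncomputable def tH (B : Type u) [CommRing B] [Algebra R B] : letI := ptGrp c; TPt M B →* Pt R A B :=
  letI := ptGrp c
  { toFun := tP c
    map_one' := mt_inj c (by
      rw [mt_tP]
      exact (tm_one S).trans (grp_one c).symm)
    map_mul' := fun s t => mt_inj c (by
      have h := grp_mul c (tP c s) (tP c t)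
      rw [mt_tP, mt_tP] at h
      rw [mt_tP, tm_mul]
      exact h.symm) }

lemma mt_listProd (L : List idx) (x : idx → B) : letI := ptGrp c;
    mt c (L.map fun a => uP c a (x a)).prod = pm S L x := by
  letI := ptGrp c
  have h : mt c (L.map fun a => uP c a (x a)).prod = mtHom c B (L.map fun a => uP c a (x a)).prod := rfl
  rw [h, map_list_prod, List.map_map, pm]
  congr 1
  refine List.map_congr_left fun a _ => ?_
  exact mt_uP c a (x a)

lemma mt_cell (x : idx → B) (t : TPt M B) : letI := ptGrp c;
    mt c ((S.negL.map fun a => uP c a (x a)).prod * tH c B t * (S.posL.map fun a => uP c a (x a)).prod) =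
      cellM S x t := by
  letI := ptGrp c
  have h1 := grp_mul c ((S.negL.map fun a => uP c a (x a)).prod * tH c B t)
    (S.posL.map fun a => uP c a (x a)).prod
  have h2 := grp_mul c (S.negL.map fun a => uP c a (x a)).prod (tH c B t)
  refine h1.trans ?_
  rw [h2, mt_listProd, mt_listProd]
  have h3 : mt c (tH c B t) = tm S t := mt_tP c t
  rw [h3]
  rfl

variable [Fintype idx] [Module.Free ℤ M] [Module.Finite ℤ M]

/-- a height functional -/
noncomputable def ht (b : P.Base) : M →+ ℤ := (exists_isHt b).choose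

lemma isHt_ht : IsHt b (ht b) := (exists_isHt b).choose_spec

/-- the function defining the big cell -/
noncomputable def dF : A := dd (dg S (ht b)) c.g

lemma map_dF (f : A →ₐ[R] B) : f (dF c) = dd (dg S (ht b)) (c.g.map f) :=
  (dd_map (d := dg S (ht b)) (f : A →+* B) c.g).symm

end Groth.Agent.Redsub.H632.X3Pt
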