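import Groth.Agent.Redsub.H632.X3Mat
import Mathlib.RingTheory.Localization.Away.Basic
import Mathlib.RingTheory.Flat.Basic
import Mathlib.RingTheory.FiniteType
import Mathlib.Algebra.Polynomial.AlgebraMap
import Mathlib.RingTheory.Polynomial.Basic
import Mathlib.RingTheory.TensorProduct.Maps
import Mathlib.RingTheory.MvPolynomial.Basic

/-!
# The coordinate ring of the cell and the closure of the cell in `GL_J`
-/

set_option autoImplicit false
universe u

open Groth.Agent.Sga3B.Cell Groth.Agent.RedSub.H630.ChevDefs Groth.Agent.Redsub.H632.X3Defs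
  Groth.Agent.Redsub.H632.X3Mat
open MvPolynomial TensorProduct

namespace Groth.Agent.Redsub.H632.X3Ring

section CR

variable (R : Type u) [CommRing R] (idx M : Type) [AddCommGroup M]

/-- coordinate ring of `𝔸^idx × D(M)`. -/
abbrev CR : Type u := MvPolynomial idx (MonoidAlgebra R (Multiplicative M))

variable {R idx M} {B C : Type u} [CommRing B] [Algebra R B] [CommRing C] [Algebra R C]

/-- the algebra homomorphism `R[M] → B` of a torus point. -/
noncomputable def evT (t : TPt M B) : MonoidAlgebra R (Multiplicative M) →ₐ[R] B :=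
  MonoidAlgebra.lift R B (Multiplicative M) ((Units.coeHom B).comp t)

lemma evT_single (t : TPt M B) (m : Multiplicative M) (r : R) :
    evT t (MonoidAlgebra.single m r) = algebraMap R B r * (t m : B) := by
  simp [evT, MonoidAlgebra.lift_single, Algebra.smul_def]

/-- evaluation of functions on the cell at a point. -/
noncomputable def ev (x : idx → B) (t : TPt M B) : CR R idx M →ₐ[R] B :=
  MvPolynomial.aevalTower (evT t) x

@[simp] lemma ev_X (x : idx → B) (t : TPt M B) (a : idx) : ev (R := R) x t (X a) = x a := by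
  simp [ev]

@[simp] lemma ev_C_single (x : idx → B) (t : TPt M B) (m : Multiplicative M) :
    ev (R := R) x t (MvPolynomial.C (MonoidAlgebra.single m 1)) = (t m : B) := by
  simp [ev, evT_single]

variable (R idx M) in
/-- the universal coordinates -/
noncomputable def xU : idx → CR R idx M := fun a => X a

variable (R idx M) in
/-- the universal torus point -/
noncomputable def tU : TPt M (CR R idx M) :=
  MonoidHom.toHomUnits
    (((MvPolynomial.C (σ := idx) (R := MonoidAlgebra R (Multiplicative M))) : _ →* CR R idx M).comp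
      (MonoidAlgebra.of R (Multiplicative M)))

lemma ch_tU (m : M) : TPt.ch m (tU R idx M) =
    MvPolynomial.C (MonoidAlgebra.single (Multiplicative.ofAdd m) (1 : R)) := rfl

lemma algHom_ext {f g : CR R idx M →ₐ[R] B} (hX : ∀ a, f (X a) = g (X a))
    (hT : ∀ m : M, f (TPt.ch m (tU R idx M)) = g (TPt.ch m (tU R idx M))) : f = g := by
  have h1 : (f.comp (IsScalarTower.toAlgHom R (MonoidAlgebra R (Multiplicative M)) (CR R idx M))) =
      (g.comp (IsScalarTower.toAlgHom R (MonoidAlgebra R (Multiplicative M)) (CR R idx M))) := by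
    apply MonoidAlgebra.algHom_ext
    · intro m
      exact hT m.toAdd
    · exact Subsingleton.elim _ _
  have h2 : (f : CR R idx M →+* B) = (g : CR R idx M →+* B) := by
    apply MvPolynomial.ringHom_ext
    · intro r
      exact congrArg (fun k : MonoidAlgebra R (Multiplicative M) →ₐ[R] B => k r) h1
    · intro a
      exact hX a
  exact AlgHom.ext fun z => congrArg (fun k : CR R idx M →+* B => k z) h2

@[simp] lemma ev_xU (x : idx → B) (t : TPt M B) (a : idx) : ev x t (xU R idx M a) = x a :=
  ev_X x t a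

@[simp] lemma map_ev_tU (x : idx → B) (t : TPt M B) : TPt.map (ev x t) (tU R idx M) = t := by
  apply TPt.ext_ch
  intro m
  rw [TPt.ch_map, ch_tU, ev_C_single]
  rfl

lemma comp_ev (φ : B →ₐ[R] C) (x : idx → B) (t : TPt M B) :
    φ.comp (ev x t) = ev (fun a => φ (x a)) (TPt.map φ t) := by
  apply algHom_ext
  · intro a; simp
  · intro m
    rw [AlgHom.comp_apply, ch_tU, ev_C_single, ev_C_single]
    rfl

/-- Every algebra homomorphism from the cell ring is an evaluation. -/
lemma eq_ev (f : CR R idx M →ₐ[R] B) : f = ev (fun a => f (X a)) (TPt.map f (tU R idx M)) := by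
  apply algHom_ext
  · intro a; simp
  · intro m
    rw [ch_tU, ev_C_single]
    rfl

lemma ev_injective {x x' : idx → B} {t t' : TPt M B} (h : ev (R := R) x t = ev x' t') :
    x = x' ∧ t = t' := by
  constructor
  · funext a
    rw [← ev_X (R := R) x t a, h, ev_X]
  · rw [← map_ev_tU (R := R) x t, h, map_ev_tU]

end CR

variable {idx M : Type} [AddCommGroup M]
  {P : RootPairing idx ℤ M (Module.Dual ℤ M)} {b : P.Base} (S : ChevSys.{u} P b)

/-- the entries of a matrix and of another one, as one family -/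
def ent {J D : Type*} (g gi : Matrix J J D) : (J × J) ⊕ (J × J) → D :=
  Sum.elim (fun p => g p.1 p.2) (fun p => gi p.1 p.2)

/-- `A` is the closure of the cell: the subring of the ring of the cell generated by the entries of the universal
cell matrix and of its inverse. -/
structure Clo (R A : Type u) [CommRing R] [CommRing A] [Algebra R A] where
  /-- restriction of functions to the cell -/
  ι : A →ₐ[R] CR R idx M
  inj : Function.Injective ι
  /-- the universal matrix -/
  g : Matrix S.J S.J A
  /-- its inverse -/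
  gi : Matrix S.J S.J A
  g_map : g.map ι = cm S (xU R idx M) (tU R idx M)
  gi_map : gi.map ι = cmi S (xU R idx M) (tU R idx M)
  gen : Algebra.adjoin R (Set.range (ent g gi)) = ⊤

section exist

variable (R : Type u) [CommRing R]

/-- auxiliary: the subalgebra generated by the entries of two matrices -/
lemma exists_sub {J : Type} {D : Type u} [CommRing D] [Algebra R D] (G Gi : Matrix J J D) :
    ∃ (A : Type u) (_ : CommRing A) (_ : Algebra R A) (ι : A →ₐ[R] D) (g gi : Matrix J J A),
      Function.Injective ι ∧ g.map ι = G ∧ gi.map ι = Gi ∧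
      Algebra.adjoin R (Set.range (ent g gi)) = ⊤ := by
  let A₀ := Algebra.adjoin R (Set.range (ent G Gi))
  have h1 : ∀ p, ent G Gi p ∈ A₀ := fun p => Algebra.subset_adjoin ⟨p, rfl⟩
  refine ⟨A₀, inferInstance, inferInstance, A₀.val, Matrix.of fun j k => ⟨G j k, h1 (Sum.inl (j, k))⟩,
    Matrix.of fun j k => ⟨Gi j k, h1 (Sum.inr (j, k))⟩, Subtype.val_injective, rfl, rfl, ?_⟩
  rw [eq_top_iff, ← Algebra.adjoin_adjoin_coe_preimage (s := Set.range (ent G Gi))]
  refine Algebra.adjoin_mono ?_
  rintro ⟨x, hx⟩ ⟨p, hp⟩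
  change ent G Gi p = x at hp
  subst hp
  refine ⟨p, ?_⟩
  rcases p with p | p <;> rfl

/-- the closure of the cell exists -/
theorem exists_clo : ∃ (A : Type u) (_ : CommRing A) (_ : Algebra R A), Nonempty (Clo S R A) := by
  obtain ⟨A, i1, i2, ι, g, gi, h1, h2, h3, h4⟩ := exists_sub R (cm S (xU R idx M) (tU R idx M))
    (cmi S (xU R idx M) (tU R idx M))
  exact ⟨A, i1, i2, ⟨⟨ι, h1, g, gi, h2, h3, h4⟩⟩⟩

end exist

namespace Clo

variable {S}
variable {R A : Type u} [CommRing R] [CommRing A] [Algebra R A] (c : Clo S R A)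
variable {B C : Type u} [CommRing B] [Algebra R B] [CommRing C] [Algebra R C]

include c

omit [CommRing B] [CommRing C] [Algebra R B] [Algebra R C] in
lemma map_injective {D E : Type u} {m m' : Matrix S.J S.J D} (φ : D → E) (hφ : Function.Injective φ)
    (h : m.map φ = m'.map φ) : m = m' := by
  ext j k
  exact hφ (congrFun (congrFun h j) k)

lemma g_mul_gi : c.g * c.gi = 1 := by
  refine c.map_injective c.ι c.inj ?_
  rw [Matrix.map_mul, c.g_map, c.gi_map, cm_mul_cmi]
  exact (map_one (c.ι.toRingHom.mapMatrix (m := S.J))).symm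

lemma gi_mul_g : c.gi * c.g = 1 := mul_eq_one_comm.mp c.g_mul_gi

lemma map_g_mul (f : A →ₐ[R] B) : c.g.map f * c.gi.map f = 1 := by
  rw [← Matrix.map_mul, c.g_mul_gi]
  exact map_one (f.toRingHom.mapMatrix (m := S.J))

lemma map_gi_eq (f : A →ₐ[R] B) {m : Matrix S.J S.J B} (h : c.g.map f * m = 1) : m = c.gi.map f := by
  have h1 : c.gi.map f * c.g.map f = 1 := mul_eq_one_comm.mp (c.map_g_mul f)
  calc m = (c.gi.map f * c.g.map f) * m := by rw [h1, one_mul]
    _ = c.gi.map f := by rw [mul_assoc, h, mul_one]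

lemma hom_ext {f f' : A →ₐ[R] B} (h : c.g.map f = c.g.map f') : f = f' := by
  have h2 : c.gi.map f = c.gi.map f' := by
    apply c.map_gi_eq f'
    rw [← h]
    exact c.map_g_mul f
  refine AlgHom.ext_of_adjoin_eq_top c.gen ?_
  rintro x ⟨p | p, rfl⟩
  · exact congrFun (congrFun h p.1) p.2
  · exact congrFun (congrFun h2 p.1) p.2

/-- closedness: a point over `C` whose matrix is defined over `B ⊆ C` is a point over `B`. -/
lemma descend (φ : B →ₐ[R] C) (hφ : Function.Injective φ) (f : A →ₐ[R] C) (m m' : Matrix S.J S.J B)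
    (hm : m * m' = 1) (h : c.g.map f = m.map φ) : ∃ k : A →ₐ[R] B, c.g.map k = m ∧ φ.comp k = f := by
  have h' : c.gi.map f = m'.map φ := by
    symm
    apply c.map_gi_eq f
    rw [h, ← Matrix.map_mul, hm]
    exact map_one (φ.toRingHom.mapMatrix (m := S.J))
  have hr : ∀ a : A, f a ∈ φ.range := by
    intro a
    have ha : a ∈ Algebra.adjoin R (Set.range (ent c.g c.gi)) := by rw [c.gen]; trivial
    refine Algebra.adjoin_induction (p := fun a _ => f a ∈ φ.range) ?_ ?_ ?_ ?_ ha
    · rintro x ⟨p | p, rfl⟩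
      · exact ⟨m p.1 p.2, (congrFun (congrFun h p.1) p.2).symm⟩
      · exact ⟨m' p.1 p.2, (congrFun (congrFun h' p.1) p.2).symm⟩
    · intro r
      rw [AlgHom.commutes]
      exact Subalgebra.algebraMap_mem _ r
    · intro x y _ _ h1 h2
      rw [map_add]; exact add_mem h1 h2
    · intro x y _ _ h1 h2
      rw [map_mul]; exact mul_mem h1 h2
  let k : A →ₐ[R] B := ((AlgEquiv.ofInjective φ hφ).symm : φ.range →ₐ[R] B).comp (f.codRestrict φ.range hr)
  have hk : φ.comp k = f := by
    ext a
    change φ ((AlgEquiv.ofInjective φ hφ).symm _) = f a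
    have := (AlgEquiv.ofInjective φ hφ).apply_symm_apply (f.codRestrict φ.range hr a)
    exact congrArg Subtype.val this
  refine ⟨k, ?_, hk⟩
  refine c.map_injective φ hφ ?_
  rw [← h, ← hk]
  rfl

/-- the matrix `m` satisfies the equations of the closure of the cell -/
def IsPt (m : Matrix S.J S.J B) : Prop := ∃ f : A →ₐ[R] B, c.g.map f = m

lemma IsPt.map {m : Matrix S.J S.J B} (h : c.IsPt (R := R) m) (φ : B →ₐ[R] C) : c.IsPt (R := R) (m.map φ) := by
  obtain ⟨f, rfl⟩ := h
  exact ⟨φ.comp f, rfl⟩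

lemma isPt_of_map (φ : B →ₐ[R] C) (hφ : Function.Injective φ) {m m' : Matrix S.J S.J B} (hm : m * m' = 1)
    (h : c.IsPt (R := R) (m.map φ)) : c.IsPt (R := R) m := by
  obtain ⟨f, hf⟩ := h
  obtain ⟨k, hk, -⟩ := c.descend φ hφ f m m' hm hf
  exact ⟨k, hk⟩

lemma isPt_cm (x : idx → B) (t : TPt M B) : c.IsPt (R := R) (cm S x t) := by
  refine ⟨(ev x t).comp c.ι, ?_⟩
  have h : c.g.map ((ev x t).comp c.ι) = (c.g.map c.ι).map (ev (R := R) x t) := rfl
  rw [h, c.g_map, cm_map]
  simp

lemma isPt_one : c.IsPt (R := R) (1 : Matrix S.J S.J B) := by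
  rw [← cm_zero_one S]
  exact c.isPt_cm _ _

/-- Left multiplication by `um S a x` preserves the closure if it does so universally. -/
lemma isPt_um_mul_of_universal (a : idx) (ψ : Polynomial A →ₐ[R] C) (hψ : Function.Injective ψ)
    (h : c.IsPt (R := R) (um S a (ψ Polynomial.X) * c.g.map (fun z => ψ (Polynomial.C z))))
    (x : B) {m : Matrix S.J S.J B} (hm : c.IsPt (R := R) m) : c.IsPt (R := R) (um S a x * m) := by
  obtain ⟨f, rfl⟩ := hm
  -- universal case over `A[X]`
  have h1 : c.IsPt (R := R) (um S a (Polynomial.X : Polynomial A) *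
      c.g.map (Polynomial.CAlgHom : A →ₐ[R] Polynomial A)) := by
    refine c.isPt_of_map ψ hψ
      (m' := c.gi.map (Polynomial.CAlgHom : A →ₐ[R] Polynomial A) * um S a (-Polynomial.X)) ?_ ?_
    · have e1 := c.map_g_mul (Polynomial.CAlgHom : A →ₐ[R] Polynomial A)
      rw [mul_assoc, ← mul_assoc (c.g.map _), e1, one_mul, um_mul_neg]
    · rw [Matrix.map_mul, um_map]
      exact h
  -- specialise
  have h2 := IsPt.map c h1 (Polynomial.eval₂AlgHom f x (fun _ => Commute.all _ _) : Polynomial A →ₐ[R] B)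
  convert h2 using 1
  rw [Matrix.map_mul, um_map]
  congr 1
  · congr 1
    simp [Polynomial.eval₂AlgHom]
  · ext j k
    simp [Polynomial.eval₂AlgHom]

lemma isPt_neg_mul_aux {D : Type u} [CommRing D] [Algebra R D] (κ : A →ₐ[R] D) (hκ : Function.Injective κ)
    (x₀ : idx → D) (t₀ : TPt M D) (hg : c.g.map κ = cm S x₀ t₀) {a : idx} (ha : a ∈ b.support)
    (x : B) {m : Matrix S.J S.J B}
    (hm : c.IsPt (R := R) m) : c.IsPt (R := R) (um S (P.reflectionPerm a a) x * m) := by
  refine c.isPt_um_mul_of_universal _ (Polynomial.mapAlgHom κ) (Polynomial.map_injective _ hκ) ?_ x hm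
  have h1 : c.g.map (fun z => (Polynomial.mapAlgHom κ : Polynomial A →ₐ[R] Polynomial D) (Polynomial.C z)) =
      cm S (fun a => (Polynomial.CAlgHom : D →ₐ[R] Polynomial D) (x₀ a))
        (TPt.map (Polynomial.CAlgHom : D →ₐ[R] Polynomial D) t₀) := by
    rw [← cm_map, ← hg]
    ext j k
    simp
  rw [h1]
  obtain ⟨x', hx'⟩ := neg_mul_cm S ha ((Polynomial.mapAlgHom κ : Polynomial A →ₐ[R] Polynomial D) Polynomial.X)
    (fun a => (Polynomial.CAlgHom : D →ₐ[R] Polynomial D) (x₀ a))
    (TPt.map (Polynomial.CAlgHom : D →ₐ[R] Polynomial D) t₀)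
  rw [hx']
  exact c.isPt_cm _ _

omit c in
lemma mem_nonZeroDivisors_one_add_C_mul_X {D : Type u} [CommRing D] (y : D) :
    (1 + Polynomial.C y * Polynomial.X : Polynomial D) ∈ nonZeroDivisors (Polynomial D) := by
  rw [mem_nonZeroDivisors_iff_right]
  intro p hp
  by_contra hne
  -- the lowest coefficient
  have h1 := Polynomial.coeff_natTrailingDegree_ne_zero.mpr hne
  apply h1
  have h2 : (p * (1 + Polynomial.C y * Polynomial.X)).coeff p.natTrailingDegree = 0 := by
    rw [hp, Polynomial.coeff_zero]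
  rw [mul_add, mul_one, Polynomial.coeff_add] at h2
  have h3 : (p * (Polynomial.C y * Polynomial.X)).coeff p.natTrailingDegree = 0 := by
    rw [mul_comm (Polynomial.C y), ← mul_assoc, Polynomial.coeff_mul_C]
    rcases hn : p.natTrailingDegree with _ | n
    · simp
    · rw [Polynomial.coeff_mul_X, Polynomial.coeff_eq_zero_of_lt_natTrailingDegree (by omega), zero_mul]
  rw [h3, add_zero] at h2
  exact h2

lemma isPt_pos_mul_aux {D : Type u} [CommRing D] [Algebra R D] (κ : A →ₐ[R] D) (hκ : Function.Injective κ)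
    (x₀ : idx → D) (t₀ : TPt M D) (hg : c.g.map κ = cm S x₀ t₀) {a : idx} (ha : a ∈ b.support)
    (x : B) {m : Matrix S.J S.J B}
    (hm : c.IsPt (R := R) m) : c.IsPt (R := R) (um S a x * m) := by
  set δ : Polynomial D := 1 + Polynomial.C (x₀ (P.reflectionPerm a a)) * Polynomial.X with hδ
  let φ : Polynomial D →ₐ[R] Localization.Away δ := IsScalarTower.toAlgHom R (Polynomial D) _
  have hφ : Function.Injective φ := by
    have := IsLocalization.injective (Localization.Away δ) (M := Submonoid.powers δ) (R := Polynomial D)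
      (by
        rw [Submonoid.powers_le]
        exact mem_nonZeroDivisors_one_add_C_mul_X _)
    exact this
  refine c.isPt_um_mul_of_universal _ (φ.comp (Polynomial.mapAlgHom κ))
    (hφ.comp (Polynomial.map_injective _ hκ)) ?_ x hm
  set y₁ : idx → Localization.Away δ := fun a => φ (Polynomial.C (x₀ a)) with hy₁
  set t₁ : TPt M (Localization.Away δ) := TPt.map (φ.comp (Polynomial.CAlgHom : D →ₐ[R] Polynomial D)) t₀
  have h1 : c.g.map (fun z => (φ.comp (Polynomial.mapAlgHom κ)) (Polynomial.C z)) = cm S y₁ t₁ := by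
    have e1 := cm_map S (φ.comp (Polynomial.CAlgHom : D →ₐ[R] Polynomial D)) x₀ t₀
    refine Eq.trans ?_ e1
    rw [← hg]
    ext j k
    simp
  rw [h1]
  obtain ⟨v, hv⟩ : IsUnit (φ δ) := IsLocalization.Away.algebraMap_isUnit δ
  obtain ⟨x', t', h'⟩ := pos_mul_cm S ha ((φ.comp (Polynomial.mapAlgHom κ)) Polynomial.X) y₁ t₁ v (by
    have e2 : φ δ = 1 + φ (Polynomial.C (x₀ (P.reflectionPerm a a))) * φ Polynomial.X := by
      rw [← map_mul, ← map_one φ, ← map_add]
    rw [hv, e2, mul_comm (φ _), hy₁]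
    simp)
  rw [h']
  exact c.isPt_cm _ _

lemma isPt_neg_mul {a : idx} (ha : a ∈ b.support) (x : B) {m : Matrix S.J S.J B}
    (hm : c.IsPt (R := R) m) : c.IsPt (R := R) (um S (P.reflectionPerm a a) x * m) :=
  c.isPt_neg_mul_aux c.ι c.inj _ _ c.g_map ha x hm

lemma isPt_pos_mul {a : idx} (ha : a ∈ b.support) (x : B) {m : Matrix S.J S.J B}
    (hm : c.IsPt (R := R) m) : c.IsPt (R := R) (um S a x * m) :=
  c.isPt_pos_mul_aux c.ι c.inj _ _ c.g_map ha x hm

end Clo

end Groth.Agent.Redsub.H632.X3Ring
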